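import Cfsg.Agent.Known.OrthAut.Main
import Cfsg.Agent.Classical.Orth.StdForms

/-!
The standard forms: every automorphism of `PΩ` is induced by a semisimilarity.
-/

set_option autoImplicit false
set_option linter.style.haveILetI false

namespace Cfsg.Lib.OrthAut

open Matrix Cfsg.Lib.Classical Cfsg.Lib.Classical.Refl

universe u

variable {F : Type u} [Field F] [Fintype F]

theorem gamma_eq_top_of_eq {ι : Type} [Fintype ι] [DecidableEq ι] {Q : QuadraticForm F (ι → F)} (G : Good Q)
    (hH : Narrow Q) (f : (ι → F) → F) (hf : f = ⇑Q) : Cfsg.gammaPOmega F f = ⊤ := by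
  classical
  subst hf
  exact gamma_eq_top G hH

theorem finrank_ts_le {ι : Type} [Fintype ι] [DecidableEq ι] {Q : QuadraticForm F (ι → F)}
    (hQ : (QuadraticMap.polarBilin Q).Nondegenerate) {T : Submodule F (ι → F)} (hT : ∀ x ∈ T, Q x = 0) :
    2 * Module.finrank F T ≤ Fintype.card ι := by
  have h1 := Submodule.finrank_mono (HypQuad.le_perp Q hT)
  have h2 := HypQuad.finrank_perp Q hQ T
  have h3 := Submodule.finrank_le T
  rw [Module.finrank_fintype_fun_eq_card F] at h2 h3
  omega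

theorem odd_top (hodd : Odd (Fintype.card F)) {m : ℕ} (hm : 3 ≤ m) :
    Cfsg.gammaPOmega F (Cfsg.quadFormOdd m F) = ⊤ := by
  have hnd := oddForm_nondegenerate (F := F) (two_ne_zero_of_odd hodd) m
  have hn : Fintype.card (Unit ⊕ (Fin m ⊕ Fin m)) = 2 * m + 1 := by simp; omega
  refine gamma_eq_top_of_eq (Q := oddForm m F) ⟨hnd, by omega⟩ ?_ _ (oddForm_coe m).symm
  rcases Nat.lt_or_ge m 4 with h | h
  · exact Or.inr fun T hT => by have := finrank_ts_le hnd hT; omega
  · exact Or.inl (by omega)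

theorem minus_ts_le {m : ℕ} {a b : F}
    (hab : ∀ z₁ z₂ : F, z₁ ^ 2 + a * z₁ * z₂ + b * z₂ ^ 2 = 0 → z₁ = 0 ∧ z₂ = 0)
    {T : Submodule F ((Fin m ⊕ Fin m) ⊕ Fin 2 → F)} (hT : ∀ x ∈ T, minusForm m F a b x = 0) :
    Module.finrank F T ≤ m := by
  classical
  have hnd := minusForm_nondegenerate' m hab
  have hcard : Fintype.card ((Fin m ⊕ Fin m) ⊕ Fin 2) = 2 * m + 2 := by simp; omega
  by_contra hc
  push Not at hc
  have h2 := finrank_ts_le hnd hT
  set P : ((Fin m ⊕ Fin m) ⊕ Fin 2 → F) →ₗ[F] (Fin m → F) :=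
    LinearMap.funLeft F F (fun j : Fin m => Sum.inl (Sum.inr j))
  set Pl : ((Fin m ⊕ Fin m) ⊕ Fin 2 → F) →ₗ[F] (Fin m → F) :=
    LinearMap.funLeft F F (fun j : Fin m => Sum.inl (Sum.inl j))
  -- the part of `T` without second coordinates
  set T0 := (P.domRestrict T).ker
  have hrn := (P.domRestrict T).finrank_range_add_finrank_ker
  have hform : ∀ x ∈ T, P x = 0 → x (Sum.inr 0) = 0 ∧ x (Sum.inr 1) = 0 := fun x hx hPx => by
    refine hab _ _ ?_
    have h1 := hT x hx
    rw [minusForm_coe, Cfsg.quadFormMinus] at h1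
    have hz : ∀ j : Fin m, x (Sum.inl (Sum.inr j)) = 0 := fun j => congrFun hPx j
    simpa [hz] using h1
  have hinj : Function.Injective (Pl ∘ₗ T.subtype ∘ₗ T0.subtype) := (injective_iff_map_eq_zero _).2 fun x hx => by
    have hPx : P (x.1 : (Fin m ⊕ Fin m) ⊕ Fin 2 → F) = 0 := x.2
    obtain ⟨h0, h1⟩ := hform _ x.1.2 hPx
    refine Subtype.ext (Subtype.ext (funext fun i => ?_))
    rcases i with (j | j) | j
    · exact congrFun hx j
    · exact congrFun hPx j
    · fin_cases j
      · exact h0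
      · exact h1
  have hK : Module.finrank F ((LinearMap.range (Pl ∘ₗ T.subtype ∘ₗ T0.subtype))) = Module.finrank F T0 :=
    (LinearEquiv.ofInjective _ hinj).finrank_eq.symm
  -- the second coordinates are orthogonal to that part
  let dotB : LinearMap.BilinForm F (Fin m → F) :=
    LinearMap.mk₂ F (fun x y => x ⬝ᵥ y) (fun x y z => add_dotProduct x y z) (fun c x y => smul_dotProduct c x y)
      (fun x y z => dotProduct_add x y z) (fun c x y => dotProduct_smul c x y)
  have hdot : dotB.Nondegenerate := ⟨fun x hx => funext fun i => by simpa [dotB] using hx (Pi.single i 1),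
    fun x hx => funext fun i => by simpa [dotB] using hx (Pi.single i 1)⟩
  have horth : LinearMap.range (P.domRestrict T) ≤
      LinearMap.BilinForm.orthogonal dotB (LinearMap.range (Pl ∘ₗ T.subtype ∘ₗ T0.subtype)) := by
    rintro _ ⟨y, rfl⟩ _ ⟨x, rfl⟩
    have hp := HypQuad.polar_zero_of_singular (minusForm m F a b) hT x.1.2 y.2
    have hPx : P (x.1 : (Fin m ⊕ Fin m) ⊕ Fin 2 → F) = 0 := x.2
    obtain ⟨h0, h1⟩ := hform _ x.1.2 hPx
    have hz : ∀ j : Fin m, (x.1 : (Fin m ⊕ Fin m) ⊕ Fin 2 → F) (Sum.inl (Sum.inr j)) = 0 := fun j => congrFun hPx j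
    simp only [QuadraticMap.polar, minusForm_coe, Cfsg.quadFormMinus, Pi.add_apply, h0, h1, hz, zero_add, mul_zero,
      add_mul, Finset.sum_add_distrib, Finset.sum_const_zero, zero_mul, ne_eq, OfNat.ofNat_ne_zero,
      not_false_eq_true, zero_pow, add_zero] at hp
    show dotB _ _ = 0
    simp only [dotB, LinearMap.mk₂_apply, LinearMap.coe_comp, Function.comp_apply, Submodule.coe_subtype,
      LinearMap.domRestrict_apply, dotProduct, Pl, P, LinearMap.funLeft_apply]
    linear_combination hp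
  have h3 := (Submodule.finrank_mono horth).trans_eq (LinearMap.BilinForm.finrank_orthogonal hdot _)
  have h4 := Submodule.finrank_le (LinearMap.range (Pl ∘ₗ T.subtype ∘ₗ T0.subtype))
  rw [hK, Module.finrank_fin_fun] at h3 h4
  change Module.finrank F (LinearMap.range (P.domRestrict T)) + Module.finrank F T0 = _ at hrn
  omega

theorem minus_top {m : ℕ} (hm : 3 ≤ m) (a b : F)
    (hab : ∀ z₁ z₂ : F, z₁ ^ 2 + a * z₁ * z₂ + b * z₂ ^ 2 = 0 → z₁ = 0 ∧ z₂ = 0) :
    Cfsg.gammaPOmega F (Cfsg.quadFormMinus m F a b) = ⊤ := by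
  classical
  have hn : Fintype.card ((Fin m ⊕ Fin m) ⊕ Fin 2) = 2 * m + 2 := by simp; omega
  refine gamma_eq_top_of_eq (Q := minusForm m F a b) ⟨minusForm_nondegenerate' m hab, by omega⟩ ?_ _
    (minusForm_coe m a b).symm
  rcases Nat.lt_or_ge m 4 with h | h
  · exact Or.inr fun T hT => (minus_ts_le hab hT).trans (by omega)
  · exact Or.inl (by omega)

theorem plus_top {m : ℕ} (hm : 5 ≤ m) : Cfsg.gammaPOmega F (Cfsg.quadFormPlus m F) = ⊤ := by
  classical
  have hn : Fintype.card (Fin m ⊕ Fin m) = 2 * m := by simp; omega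
  refine gamma_eq_top_of_eq (Q := HypQuad.plusForm m F) ⟨HypQuad.plusForm_nondegenerate m, by omega⟩
    (Or.inl (by omega)) _ (funext fun v => (HypQuad.plusForm_apply m v).symm)

end Cfsg.Lib.OrthAut
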