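import Cfsg.Agent.Classical.Orth.Simple

/-!
Siegel elements in `PΩ(Q)`: totalised versions, linear algebra of singular vectors.
-/

set_option autoImplicit false
set_option linter.unusedSectionVars false
set_option linter.style.haveILetI false

namespace Cfsg.Lib.OrthAut

open Matrix Cfsg.Lib.Classical Cfsg.Lib.Classical.Refl

universe u

variable {F : Type u} [Field F] [Finite F] {ι : Type} [Fintype ι] [DecidableEq ι] {Q : QuadraticForm F (ι → F)}

set_option quotPrecheck false
local notation "B'" => QuadraticMap.polar (DFunLike.coe Q)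
local notation "Iso" => Cfsg.isometryGroup F (DFunLike.coe Q)
local notation "Om" => Cfsg.Omega F (DFunLike.coe Q)
local notation "Pm" => Cfsg.POmega F (DFunLike.coe Q)

variable (Q) in
/-- The hypotheses on the form. -/
structure Good : Prop where
  nd : (QuadraticMap.polarBilin Q).Nondegenerate
  big : 7 ≤ Fintype.card ι

theorem comm' (x y : ι → F) : B' x y = B' y x := QuadraticMap.polar_comm _ x y

theorem self_zero {x : ι → F} (h : Q x = 0) : B' x x = 0 := by rw [polar_self_two, h, mul_zero]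

theorem q_add (x y : ι → F) : Q (x + y) = Q x + Q y + B' x y := QuadraticMap.map_add Q x y

theorem q_smul (c : F) (x : ι → F) : Q (c • x) = c * c * Q x := by
  rw [QuadraticMap.map_smul, smul_eq_mul]

theorem q_line {a b : ι → F} (ha : Q a = 0) (hb : Q b = 0) (hab : B' a b = 0) {x : ι → F}
    (hx : x ∈ Submodule.span F ({a, b} : Set (ι → F))) : Q x = 0 := by
  obtain ⟨s, t, rfl⟩ := Submodule.mem_span_pair.1 hx
  rw [val_lin Q hab, ha, hb, mul_zero, mul_zero, add_zero]

/-! ### Existence -/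

theorem exists_pick (G : Good Q) {S : Submodule F (ι → F)} {u : ι → F} (h : u ∉ S) :
    ∃ x, B' u x = 1 ∧ ∀ s ∈ S, B' s x = 0 := by
  obtain ⟨f, hf, hS⟩ := Submodule.exists_dual_map_eq_bot_of_notMem h inferInstance
  obtain ⟨y, hy⟩ := exists_dual Q G.nd ((f u)⁻¹ • f)
  refine ⟨y, by rw [hy]; simp [hf], fun s hs => ?_⟩
  have h0 : f s = 0 := by
    have := Submodule.mem_map_of_mem (f := f) hs
    rwa [hS, Submodule.mem_bot] at this
  rw [hy]; simp [h0]

theorem finrank_V : Module.finrank F (ι → F) = Fintype.card ι := Module.finrank_fintype_fun_eq_card F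

theorem finrank_range_le {k : ℕ} (f : Fin k → ι → F) : Module.finrank F (Submodule.span F (Set.range f)) ≤ k := by
  have := finrank_range_le_card (R := F) f
  simpa [Set.finrank] using this

theorem exists_perp_ne (G : Good Q) {k : ℕ} (f : Fin k → ι → F) (hk : k < Fintype.card ι) :
    ∃ x : ι → F, x ≠ 0 ∧ ∀ i, B' (f i) x = 0 := by
  have h1 := HypQuad.finrank_perp Q G.nd (Submodule.span F (Set.range f))
  have h2 := finrank_range_le f
  rw [finrank_V] at h1
  obtain ⟨x, hx, hx0⟩ := (HypQuad.perp Q (Submodule.span F (Set.range f))).exists_mem_ne_zero_of_ne_bot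
    (fun h => by rw [h, finrank_bot] at h1; omega)
  exact ⟨x, hx0, fun i => (HypQuad.mem_perp Q).1 hx _ (Submodule.subset_span ⟨i, rfl⟩)⟩

/-- A singular vector in a subspace avoiding another one. -/
theorem exists_singular_avoid (X Y : Submodule F (ι → F)) (h : Module.finrank F Y + 3 ≤ Module.finrank F X) :
    ∃ s ∈ X, Q s = 0 ∧ s ∉ Y := by
  obtain ⟨C, hC⟩ := Y.exists_isCompl
  have h2 := Submodule.finrank_add_eq_of_isCompl hC
  have h3 := Submodule.finrank_sup_add_finrank_inf_eq X C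
  have h4 := Submodule.finrank_le (X ⊔ C)
  obtain ⟨s, hs, hs0, hQs⟩ := exists_singular Q (X ⊓ C) (by omega)
  exact ⟨s, hs.1, hQs, fun hY => hs0 (Submodule.disjoint_def.1 hC.disjoint s hY hs.2)⟩

/-- A hyperbolic partner inside a subspace. -/
theorem exists_partner {X : Submodule F (ι → F)} {w : ι → F} (hw : w ∈ X) (hQw : Q w = 0)
    (h : ∃ y ∈ X, B' w y ≠ 0) : ∃ r ∈ X, Q r = 0 ∧ B' w r = 1 := by
  obtain ⟨y, hy, hwy⟩ := h
  refine ⟨(B' w y)⁻¹ • y + (-((B' w y)⁻¹ * (B' w y)⁻¹ * Q y)) • w, add_mem (X.smul_mem _ hy) (X.smul_mem _ hw), ?_, ?_⟩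
  · rw [WittQuad.val_smul_add, q_smul, hQw, QuadraticMap.polar_smul_left, comm' y w, smul_eq_mul]
    field_simp
    ring
  · rw [QuadraticMap.polar_add_right, QuadraticMap.polar_smul_right, QuadraticMap.polar_smul_right, self_zero hQw,
      smul_zero, add_zero, smul_eq_mul, inv_mul_cancel₀ hwy]

/-- A subspace with a hyperbolic pair is spanned by its singular vectors. -/
theorem mem_span_singular {X : Submodule F (ι → F)} {p q : ι → F} (hp : p ∈ X) (hq : q ∈ X) (hQp : Q p = 0)
    (hQq : Q q = 0) (hpq : B' p q = 1) {x : ι → F} (hx : x ∈ X) :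
    x ∈ Submodule.span F {s : ι → F | s ∈ X ∧ Q s = 0} := by
  set y := x - B' q x • p - B' p x • q with hy
  have hyX : y ∈ X := sub_mem (sub_mem hx (X.smul_mem _ hp)) (X.smul_mem _ hq)
  have hpy : B' p y = 0 := by
    simp [hy, QuadraticMap.polar_sub_right, QuadraticMap.polar_smul_right, self_zero hQp, hpq]
  have hqy : B' q y = 0 := by
    simp [hy, QuadraticMap.polar_sub_right, QuadraticMap.polar_smul_right, self_zero hQq, comm' q p, hpq]
  have hs : Q (q + y + (-Q y) • p) = 0 := by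
    rw [WittQuad.val_smul_add, q_add, hQp, hQq, hqy, QuadraticMap.polar_add_left, comm' q p, hpq, comm' y p, hpy]
    ring
  have hS : ∀ s ∈ X, Q s = 0 → s ∈ Submodule.span F {s : ι → F | s ∈ X ∧ Q s = 0} := fun s h1 h2 =>
    Submodule.subset_span ⟨h1, h2⟩
  have e : x = (q + y + (-Q y) • p) + (B' q x + Q y) • p + (B' p x - 1) • q := by rw [hy]; module
  rw [e]
  exact add_mem (add_mem (hS _ (add_mem (add_mem hq hyX) (X.smul_mem _ hp)) hs) (Submodule.smul_mem _ _ (hS p hp hQp)))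
    (Submodule.smul_mem _ _ (hS q hq hQq))

/-! ### Siegel elements -/

open _root_.Classical in
/-- The Siegel element, `1` outside its domain. -/
noncomputable def sg (u z : ι → F) : Iso :=
  if h : Q u = 0 ∧ B' u z = 0 then siegelG Q h.1 h.2 else 1

theorem sg_mulVec {u z : ι → F} (hu : Q u = 0) (hz : B' u z = 0) (x : ι → F) :
    mat Q (sg u z) *ᵥ x = x + B' u x • z + (-B' z x - Q z * B' u x) • u := by
  rw [sg, dif_pos ⟨hu, hz⟩, mat_siegelG]; rfl

theorem sg_add {u z z' : ι → F} (hu : Q u = 0) (hz : B' u z = 0) (hz' : B' u z' = 0) :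
    sg u z * sg u z' = (sg u (z + z') : Iso) := by
  have h3 : B' u (z + z') = 0 := by rw [QuadraticMap.polar_add_right, hz, hz', add_zero]
  rw [sg, sg, sg, dif_pos ⟨hu, hz⟩, dif_pos ⟨hu, hz'⟩, dif_pos ⟨hu, h3⟩, siegelG_mul]

theorem sg_zero {u : ι → F} (hu : Q u = 0) : (sg u 0 : Iso) = 1 := ext_mulVec Q fun x => by
  rw [sg_mulVec hu (QuadraticMap.polar_zero_right Q u), show mat Q (1 : Iso) = 1 from rfl, one_mulVec]
  simp

theorem sg_conj (g : Iso) {u z : ι → F} (hu : Q u = 0) (hz : B' u z = 0) :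
    g * sg u z * g⁻¹ = sg (mat Q g *ᵥ u) (mat Q g *ᵥ z) := by
  rw [sg, dif_pos ⟨hu, hz⟩, siegelG_conj, sg, dif_pos ⟨by rw [(mem_iff Q).mp g.2, hu], by rw [polar_act, hz]⟩]

theorem sg_smul {u z : ι → F} (c : F) (hu : Q u = 0) (hz : B' u z = 0) :
    (sg (c • u) z : Iso) = sg u (c • z) := ext_mulVec Q fun x => by
  rw [sg_mulVec (by rw [q_smul, hu, mul_zero]) (by rw [QuadraticMap.polar_smul_left, hz, smul_zero]),
    sg_mulVec hu (by rw [QuadraticMap.polar_smul_right, hz, smul_zero])]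
  simp only [QuadraticMap.polar_smul_left, q_smul, smul_eq_mul]
  module

theorem sg_shift {u z : ι → F} (c : F) (hu : Q u = 0) (hz : B' u z = 0) :
    (sg u (z + c • u) : Iso) = sg u z := ext_mulVec Q fun x => by
  rw [sg_mulVec hu (by rw [QuadraticMap.polar_add_right, QuadraticMap.polar_smul_right, hz, self_zero hu]; simp),
    sg_mulVec hu hz]
  simp only [QuadraticMap.polar_add_left, QuadraticMap.polar_smul_left, WittQuad.val_smul_add, hu, comm' z u, hz,
    smul_eq_mul]
  module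

theorem sg_apply_singular {u v : ι → F} (hu : Q u = 0) (hv : Q v = 0) (huv : B' u v = 0) (x : ι → F) :
    mat Q (sg u v) *ᵥ x = x + B' u x • v + (-B' v x) • u := by
  rw [sg_mulVec hu huv, hv, zero_mul, sub_zero]

theorem sg_rebase {u v : ι → F} (hu : Q u = 0) (hv : Q v = 0) (huv : B' u v = 0) (a b c d : F) :
    (sg (a • u + b • v) (c • u + d • v) : Iso) = sg u ((a * d - b * c) • v) := ext_mulVec Q fun x => by
  have hmem : ∀ s t : F, s • u + t • v ∈ Submodule.span F ({u, v} : Set (ι → F)) := fun s t =>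
    Submodule.mem_span_pair.2 ⟨s, t, rfl⟩
  rw [sg_apply_singular (q_line hu hv huv (hmem a b)) (q_line hu hv huv (hmem c d)) (by
      simp [QuadraticMap.polar_add_left, QuadraticMap.polar_add_right, QuadraticMap.polar_smul_left,
        QuadraticMap.polar_smul_right, self_zero hu, self_zero hv, huv, comm' v u]),
    sg_apply_singular hu (by rw [q_smul, hv, mul_zero]) (by rw [QuadraticMap.polar_smul_right, huv, smul_zero])]
  simp only [QuadraticMap.polar_add_left, QuadraticMap.polar_smul_left, smul_eq_mul]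
  module

theorem sg_fix {u z x : ι → F} (hu : Q u = 0) (hz : B' u z = 0) (h1 : B' u x = 0) (h2 : B' z x = 0) :
    mat Q (sg u z) *ᵥ x = x := by
  rw [sg_mulVec hu hz, h1, h2]; simp

theorem sg_mem (G : Good Q) (u z : ι → F) : (sg u z : Iso) ∈ Om := by
  by_cases h : Q u = 0 ∧ B' u z = 0
  · rw [sg, dif_pos h]
    exact siegelG_mem_omega Q G.nd (by have := G.big; omega) h.1 h.2
  · rw [sg, dif_neg h]; exact one_mem _

/-- The Siegel element of `PΩ`. -/
noncomputable def ps (G : Good Q) (u z : ι → F) : Pm := QuotientGroup.mk ⟨sg u z, sg_mem G u z⟩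

theorem ps_add (G : Good Q) {u z z' : ι → F} (hu : Q u = 0) (hz : B' u z = 0) (hz' : B' u z' = 0) :
    ps G u z * ps G u z' = ps G u (z + z') := by
  rw [ps, ps, ps, ← QuotientGroup.mk_mul]
  exact congrArg QuotientGroup.mk (Subtype.ext (sg_add hu hz hz'))

theorem ps_congr (G : Good Q) {u z u' z' : ι → F} (h : (sg u z : Iso) = sg u' z') : ps G u z = ps G u' z' :=
  congrArg QuotientGroup.mk (Subtype.ext h)

theorem ps_zero (G : Good Q) {u : ι → F} (hu : Q u = 0) : ps G u 0 = 1 :=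
  (congrArg QuotientGroup.mk (Subtype.ext (sg_zero hu) : (⟨sg u 0, sg_mem G u 0⟩ : Om) = 1))

theorem ps_conj (G : Good Q) (g : Om) {u z : ι → F} (hu : Q u = 0) (hz : B' u z = 0) :
    (QuotientGroup.mk g : Pm) * ps G u z * (QuotientGroup.mk g)⁻¹ = ps G (mat Q g.1 *ᵥ u) (mat Q g.1 *ᵥ z) := by
  rw [ps, ps, ← QuotientGroup.mk_inv, ← QuotientGroup.mk_mul, ← QuotientGroup.mk_mul]
  exact congrArg QuotientGroup.mk (Subtype.ext (sg_conj g.1 hu hz))

theorem scalar_of_central (G : Good Q) {g : Om} (hg : g ∈ Subgroup.center Om) : ∃ c : F, mat Q g.1 = c • 1 :=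
  scalar_of_fixes Q G.nd G.big g.1 fun L => fixes_of_mem_center Q G.nd G.big hg L

theorem mk_eq_of_fix (G : Good Q) {s t : Om} (h : (QuotientGroup.mk s : Pm) = QuotientGroup.mk t) {x : ι → F}
    (hx : x ≠ 0) (hs : mat Q s.1 *ᵥ x = x) (ht : mat Q t.1 *ᵥ x = x) : s = t := by
  obtain ⟨c, hc⟩ := scalar_of_central G (QuotientGroup.eq.1 h)
  have e : ∀ y, mat Q t.1 *ᵥ y = c • (mat Q s.1 *ᵥ y) := fun y => by
    have h1 : mat Q (s.1 * (s⁻¹ * t).1) *ᵥ y = mat Q s.1 *ᵥ (mat Q (s⁻¹ * t).1 *ᵥ y) := mulVec_mul Q _ _ y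
    rw [hc, Matrix.smul_mulVec, one_mulVec, Matrix.mulVec_smul] at h1
    rw [← h1, Subgroup.coe_mul, Subgroup.coe_inv, mul_inv_cancel_left]
  have h1 := e x
  rw [hs, ht] at h1
  have hc1 : c = 1 := (smul_left_injective F hx (by simpa using h1)).symm
  refine Subtype.ext (ext_mulVec Q fun y => ?_)
  rw [e y, hc1, one_smul]

theorem sg_eq_of_ps (G : Good Q) {u z u' z' x : ι → F} (h : ps G u z = ps G u' z') (hx : x ≠ 0)
    (hu : Q u = 0) (hz : B' u z = 0) (hu' : Q u' = 0) (hz' : B' u' z' = 0)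
    (h1 : B' u x = 0) (h2 : B' z x = 0) (h3 : B' u' x = 0) (h4 : B' z' x = 0) : (sg u z : Iso) = sg u' z' :=
  congrArg Subtype.val (mk_eq_of_fix G h hx (sg_fix hu hz h1 h2) (sg_fix hu' hz' h3 h4))

theorem sg_eq_of_ps' (G : Good Q) {u z u' z' : ι → F} (h : ps G u z = ps G u' z')
    (hu : Q u = 0) (hz : B' u z = 0) (hu' : Q u' = 0) (hz' : B' u' z' = 0) : (sg u z : Iso) = sg u' z' := by
  obtain ⟨x, hx, hf⟩ := exists_perp_ne G ![u, z, u', z'] (by have := G.big; omega)
  exact sg_eq_of_ps G h hx hu hz hu' hz' (hf 0) (hf 1) (hf 2) (hf 3)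

/-- The second vector is determined modulo the first one. -/
theorem sg_inj (G : Good Q) {u z z' : ι → F} (hu : Q u = 0) (hu0 : u ≠ 0) (hz : B' u z = 0) (hz' : B' u z' = 0)
    (h : (sg u z : Iso) = sg u z') : z - z' ∈ Submodule.span F {u} := by
  obtain ⟨x, hx, -⟩ := exists_pick G (S := ⊥) (u := u) (by simpa using hu0)
  have := congrArg (fun g : Iso => mat Q g *ᵥ x) h
  simp only [sg_mulVec hu hz, sg_mulVec hu hz', hx, one_smul] at this
  refine Submodule.mem_span_singleton.2 ⟨(-B' z' x - Q z' * 1) - (-B' z x - Q z * 1), ?_⟩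
  linear_combination (norm := module) -this

theorem ps_inj (G : Good Q) {u z z' : ι → F} (hu : Q u = 0) (hu0 : u ≠ 0) (hz : B' u z = 0) (hz' : B' u z' = 0)
    (h : ps G u z = ps G u z') : z - z' ∈ Submodule.span F {u} :=
  sg_inj G hu hu0 hz hz' (sg_eq_of_ps' G h hu hz hu hz')

end Cfsg.Lib.OrthAut
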