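import Cfsg.Agent.Known.OrthAut.Lines

/-!
A root group is the centre of a Sylow subgroup of the defining characteristic, so automorphisms permute root groups.
-/

set_option autoImplicit false
set_option linter.unusedSectionVars false
set_option linter.style.haveILetI false

namespace Cfsg.Lib.OrthAut

open Matrix Cfsg.Lib.Classical Cfsg.Lib.Classical.Refl

universe u

variable {F : Type u} [Field F] [Finite F] {ι : Type} [Fintype ι] [DecidableEq ι] {Q : QuadraticForm F (ι → F)}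

set_option quotPrecheck false
local notation "B'" => QuadraticMap.polar (DFunLike.coe Q)
local notation "Iso" => Cfsg.isometryGroup F (DFunLike.coe Q)
local notation "Om" => Cfsg.Omega F (DFunLike.coe Q)
local notation "Pm" => Cfsg.POmega F (DFunLike.coe Q)
local notation "Sub'" => Submodule F (ι → F)

/-- The centre of a subgroup. -/
def zc {G : Type*} [Group G] (S : Subgroup G) : Subgroup G := S ⊓ Subgroup.centralizer (S : Set G)

theorem zc_map {G H : Type*} [Group G] [Group H] (e : G ≃* H) (S : Subgroup G) :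
    zc (S.map e.toMonoidHom) = (zc S).map e.toMonoidHom := by
  ext y
  constructor
  · rintro ⟨⟨x, hx, rfl⟩, hc⟩
    refine ⟨x, ⟨hx, fun s hs => e.injective ?_⟩, rfl⟩
    rw [map_mul, map_mul]
    exact hc _ ⟨s, hs, rfl⟩
  · rintro ⟨x, ⟨hx, hc⟩, rfl⟩
    refine ⟨⟨x, hx, rfl⟩, ?_⟩
    rintro _ ⟨s, hs, rfl⟩
    show e s * e x = e x * e s
    rw [← map_mul, ← map_mul, hc s hs]

variable (G : Good Q)

/-- The isometries trivial on the factors of `0 ≤ L ≤ L⊥`. -/
def uni (L : Sub') : Subgroup Iso where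
  carrier := {g | (∀ x ∈ L, mat Q g *ᵥ x = x) ∧ ∀ x ∈ HypQuad.perp Q L, mat Q g *ᵥ x - x ∈ L}
  one_mem' := ⟨fun x _ => one_mulVec x, fun x _ => by
    rw [show mat Q (1 : Iso) = 1 from rfl, one_mulVec, sub_self]; exact L.zero_mem⟩
  mul_mem' := by
    rintro a b ⟨ha, ha'⟩ ⟨hb, hb'⟩
    refine ⟨fun x hx => ?_, fun x hx => ?_⟩
    · rw [mat, mulVec_mul]; exact (congrArg _ (hb x hx)).trans (ha x hx)
    · rw [mat, mulVec_mul]
      show mat Q a *ᵥ (mat Q b *ᵥ x) - x ∈ L
      have h1 := ha _ (hb' x hx)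
      rw [mulVec_sub, sub_eq_iff_eq_add] at h1
      rw [h1, show mat Q b *ᵥ x - x + mat Q a *ᵥ x - x = (mat Q b *ᵥ x - x) + (mat Q a *ᵥ x - x) by abel]
      exact add_mem (hb' x hx) (ha' x hx)
  inv_mem' := by
    rintro a ⟨ha, ha'⟩
    have hfix : ∀ x ∈ L, mat Q a⁻¹ *ᵥ x = x := fun x hx => by
      conv_lhs => rw [← ha x hx]
      exact mulVec_inv_cancel Q a x
    refine ⟨hfix, fun x hx => ?_⟩
    have h1 := hfix _ (ha' x hx)
    rw [mulVec_sub, mulVec_inv_cancel] at h1
    rw [show mat Q a⁻¹ *ᵥ x - x = -(x - mat Q a⁻¹ *ᵥ x) by abel, h1]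
    exact neg_mem (ha' x hx)

theorem sg_mem_uni {L : Sub'} (hL : IsLine Q L) {w z : ι → F} (hw : w ∈ L) (hz : z ∈ HypQuad.perp Q L) :
    (sg w z : Iso) ∈ uni L := by
  have hwz : B' w z = 0 := (HypQuad.mem_perp Q).1 hz w hw
  refine ⟨fun x hx => sg_fix (hL.2 w hw) hwz (hL.polar hw hx) ?_, fun x hx => ?_⟩
  · rw [comm']; exact (HypQuad.mem_perp Q).1 hz x hx
  · rw [sg_mulVec (hL.2 w hw) hwz, (HypQuad.mem_perp Q).1 hx w hw, zero_smul, add_zero, add_sub_cancel_left]
    exact L.smul_mem _ hw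

include G in
theorem uni_isPGroup (p : ℕ) [Fact p.Prime] [CharP F p] {L : Sub'} : IsPGroup p ↥(uni (Q := Q) L) := by
  rintro ⟨g, hg, hg'⟩
  refine ⟨2, Subtype.ext ?_⟩
  show g ^ p ^ 2 = 1
  set N : Matrix ι ι F := mat Q g - 1 with hN
  have hNx : ∀ x, N *ᵥ x = mat Q g *ᵥ x - x := fun x => by rw [hN, sub_mulVec, one_mulVec]
  have h1 : ∀ x, N *ᵥ x ∈ HypQuad.perp Q L := fun x => by
    rw [HypQuad.mem_perp, hNx]
    intro w hw
    rw [QuadraticMap.polar_sub_right, show B' w (mat Q g *ᵥ x) = B' w x by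
      conv_lhs => rw [← hg w hw]
      exact polar_act Q g w x, sub_self]
  have h3 : N ^ 3 = 0 := Matrix.toLin'.injective (LinearMap.ext fun x => by
    rw [Matrix.toLin'_apply, map_zero, LinearMap.zero_apply, pow_three, ← mulVec_mulVec, ← mulVec_mulVec,
      hNx (N *ᵥ (N *ᵥ x)), hg _ (by rw [hNx (N *ᵥ x)]; exact hg' _ (h1 x)), sub_self])
  have hp := (Fact.out : p.Prime).two_le
  have hpN : N ^ p ^ 2 = 0 := pow_eq_zero_of_le (by nlinarith) h3
  by_cases hι : IsEmpty ι
  · exact ext_mulVec Q fun x => funext fun i => hι.elim i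
  haveI : Nonempty ι := not_isEmpty_iff.1 hι
  haveI : CharP (Matrix ι ι F) p := Matrix.charP p
  refine Subtype.ext (Units.ext ?_)
  show mat Q (g ^ p ^ 2) = 1
  rw [show mat Q (g ^ p ^ 2) = mat Q g ^ p ^ 2 by simp [mat], show mat Q g = 1 + N by rw [hN, add_sub_cancel],
    add_pow_char_pow_of_commute _ _ (Commute.one_left N), one_pow, hpN, add_zero]

/-- The image in `PΩ` of the unipotent radical of a line stabiliser. -/
noncomputable def qL (L : Sub') : Subgroup Pm :=
  ((uni L).comap (Subgroup.subtype Om)).map (QuotientGroup.mk' (Subgroup.center Om))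

theorem ps_mem_qL {L : Sub'} (hL : IsLine Q L) {w z : ι → F} (hw : w ∈ L) (hz : z ∈ HypQuad.perp Q L) :
    ps G w z ∈ qL L :=
  ⟨⟨sg w z, sg_mem G w z⟩, sg_mem_uni hL hw hz, rfl⟩

include G in
theorem qL_isPGroup (p : ℕ) [Fact p.Prime] [CharP F p] (L : Sub') : IsPGroup p ↥(qL (Q := Q) L) :=
  ((uni_isPGroup G p).comap_of_injective _ Subtype.val_injective).map _

theorem centralizer_qL {L : Sub'} (hL : IsLine Q L) (s : Om)
    (hc : ∀ y ∈ qL L, y * (QuotientGroup.mk s : Pm) = QuotientGroup.mk s * y) :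
    (QuotientGroup.mk s : Pm) ∈ R G L := by
  have hb := G.big
  obtain ⟨u, hu, hu0⟩ := hL.ne_zero
  obtain ⟨v, hv, hvu, hsp⟩ := hL.basis hu hu0
  have hv0 : v ≠ 0 := fun h => hvu (by rw [h]; exact zero_mem _)
  obtain ⟨r, hr, r', hr', hQr, hQr', hrr⟩ := exists_pair_perp Q G.nd L (by rw [hL.1]; omega)
  have hperp : ∀ {w t : ι → F}, w ∈ L → t ∈ HypQuad.perp Q L → B' w t = 0 := fun hw ht =>
    (HypQuad.mem_perp Q).1 ht _ hw
  have step : ∀ {w t : ι → F}, w ∈ L → t ∈ HypQuad.perp Q L →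
      ps G (mat Q s.1 *ᵥ w) (mat Q s.1 *ᵥ t) = ps G w t := fun {w t} hw ht => by
    rw [← ps_conj G s (hL.2 w hw) (hperp hw ht), ← hc _ (ps_mem_qL G hL hw ht), mul_inv_cancel_right]
  have hfix : ∀ {w t : ι → F}, w ∈ L → w ≠ 0 → t ∈ HypQuad.perp Q L → Q t = 0 → t ∉ Submodule.span F {w} →
      mat Q s.1 *ᵥ w ∈ Submodule.span F {w, t} ∧ mat Q s.1 *ᵥ t ∈ Submodule.span F {w, t} := by
    intro w t hw hw0 ht hQt htw
    have hline := isLine_span (hL.2 w hw) hQt (hperp hw ht) hw0 htw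
    have e := line_eq_of_mem G hline (map_isLine s.1 hline) (x := ps G w t)
      (ps_mem_R G (Submodule.subset_span (by simp)) (Submodule.subset_span (by simp)))
      (by
        rw [← step hw ht]
        exact ps_mem_R G ⟨w, Submodule.subset_span (by simp), Matrix.toLin'_apply _ _⟩
          ⟨t, Submodule.subset_span (by simp), Matrix.toLin'_apply _ _⟩)
      (ps_ne_one G (hL.2 w hw) hw0 (hperp hw ht) htw)
    rw [e]
    exact ⟨⟨w, Submodule.subset_span (by simp), Matrix.toLin'_apply _ _⟩,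
      ⟨t, Submodule.subset_span (by simp), Matrix.toLin'_apply _ _⟩⟩
  have hrL : r ∉ L := fun h => by rw [hperp h hr'] at hrr; exact zero_ne_one hrr
  have hr'L : r' ∉ L := fun h => by rw [comm', hperp h hr] at hrr; exact zero_ne_one hrr
  have notspan : ∀ {w t : ι → F}, w ∈ L → t ∉ L → t ∉ Submodule.span F {w} := fun hw ht h =>
    ht ((Submodule.span_singleton_le_iff_mem _ _).2 hw h)
  have hL_scalar : ∀ {w : ι → F}, w ∈ L → w ≠ 0 → mat Q s.1 *ᵥ w ∈ Submodule.span F {w} := by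
    intro w hw hw0
    refine meet_span (isLine_span (hL.2 w hw) hQr (hperp hw hr) hw0 (notspan hw hrL))
      (isLine_span (hL.2 w hw) hQr' (hperp hw hr') hw0 (notspan hw hr'L)) ?_ hw0
      (Submodule.subset_span (by simp)) (Submodule.subset_span (by simp))
      (hfix hw hw0 hr hQr (notspan hw hrL)).1 (hfix hw hw0 hr' hQr' (notspan hw hr'L)).1
    intro e
    have h1 : r' ∈ Submodule.span F ({w, r} : Set (ι → F)) := by rw [e]; exact Submodule.subset_span (by simp)
    obtain ⟨a, b, hab⟩ := Submodule.mem_span_pair.1 h1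
    rw [← hab, QuadraticMap.polar_add_right, QuadraticMap.polar_smul_right, QuadraticMap.polar_smul_right,
      comm' r w, hperp hw hr, self_zero hQr, smul_zero, smul_zero, add_zero] at hrr
    exact zero_ne_one hrr
  have hT_scalar : ∀ {t : ι → F}, t ∈ HypQuad.perp Q L → Q t = 0 → t ∉ L →
      mat Q s.1 *ᵥ t ∈ Submodule.span F {t} := by
    intro t ht hQt htL
    have ht0 : t ≠ 0 := fun h => htL (by rw [h]; exact L.zero_mem)
    refine meet_span (isLine_span (hL.2 u hu) hQt (hperp hu ht) hu0 (notspan hu htL))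
      (isLine_span (hL.2 v hv) hQt (hperp hv ht) hv0 (notspan hv htL)) ?_ ht0
      (Submodule.subset_span (by simp)) (Submodule.subset_span (by simp))
      (hfix hu hu0 ht hQt (notspan hu htL)).2 (hfix hv hv0 ht hQt (notspan hv htL)).2
    intro e
    have h1 : v ∈ Submodule.span F ({u, t} : Set (ι → F)) := by rw [e]; exact Submodule.subset_span (by simp)
    obtain ⟨a, b, hab⟩ := Submodule.mem_span_pair.1 h1
    have hb0 : b = 0 := by
      by_contra hb0
      refine htL ((L.smul_mem_iff hb0).1 ((L.add_mem_iff_right (L.smul_mem a hu)).1 ?_))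
      rw [hab]; exact hv
    rw [hb0, zero_smul, add_zero] at hab
    exact hvu (Submodule.mem_span_singleton.2 ⟨a, hab⟩)
  have prod_one : ∀ {w t : ι → F} {a b : F}, w ∈ L → w ≠ 0 → t ∈ HypQuad.perp Q L → t ∉ L →
      mat Q s.1 *ᵥ w = a • w → mat Q s.1 *ᵥ t = b • t → a * b = 1 := by
    intro w t a b hw hw0 ht htL ha hb'
    have h1 := step hw ht
    rw [ha, hb', ps_congr G (sg_smul a (hL.2 w hw) (by rw [QuadraticMap.polar_smul_right, hperp hw ht, smul_zero])),
      smul_smul] at h1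
    have h2 := ps_inj G (hL.2 w hw) hw0 (by rw [QuadraticMap.polar_smul_right, hperp hw ht, smul_zero]) (hperp hw ht) h1
    rw [← one_smul F t, smul_smul, mul_one, ← sub_smul] at h2
    by_contra hne
    exact notspan hw htL ((Submodule.smul_mem_iff _ (sub_ne_zero.2 hne)).1 h2)
  obtain ⟨c, hcu⟩ := Submodule.mem_span_singleton.1 (hL_scalar hu hu0)
  obtain ⟨c', hcv⟩ := Submodule.mem_span_singleton.1 (hL_scalar hv hv0)
  obtain ⟨d, hd⟩ := Submodule.mem_span_singleton.1 (hT_scalar hr hQr hrL)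
  obtain ⟨d', hd'⟩ := Submodule.mem_span_singleton.1 (hT_scalar hr' hQr' hr'L)
  have e1 := prod_one hu hu0 hr hrL hcu.symm hd.symm
  have e2 := prod_one hv hv0 hr hrL hcv.symm hd.symm
  have e3 := prod_one hu hu0 hr' hr'L hcu.symm hd'.symm
  have e4 : d * d' = 1 := by
    have := polar_act Q s.1 r r'
    rwa [← hd, ← hd', QuadraticMap.polar_smul_left, QuadraticMap.polar_smul_right, hrr, smul_eq_mul, smul_eq_mul,
      mul_one] at this
  have hc0 : c ≠ 0 := fun h => by rw [h, zero_mul] at e1; exact zero_ne_one e1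
  have hcc : c * c = 1 := by linear_combination -(c * c) * e4 + (c * d') * e1 + e3
  have hcc' : c' = c := by
    refine mul_right_cancel₀ (fun h : d = 0 => ?_) (e2.trans e1.symm)
    rw [h, mul_zero] at e1; exact zero_ne_one e1
  subst hcc'
  -- the element is a scalar on the orthogonal complement of the line
  have hgen : ∀ t ∈ Submodule.span F {t : ι → F | t ∈ HypQuad.perp Q L ∧ Q t = 0}, mat Q s.1 *ᵥ t = c' • t := by
    intro t hmem
    induction hmem using Submodule.span_induction with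
    | mem t ht =>
      obtain ⟨ht, hQt⟩ := ht
      by_cases htL : t ∈ L
      · rw [hsp] at htL
        obtain ⟨a, b, rfl⟩ := Submodule.mem_span_pair.1 htL
        rw [mulVec_add, mulVec_smul, mulVec_smul, ← hcu, ← hcv]
        module
      · obtain ⟨e, he⟩ := Submodule.mem_span_singleton.1 (hT_scalar ht hQt htL)
        have h1 := prod_one hu hu0 ht htL hcu.symm he.symm
        rw [← he, show e = c' by linear_combination c' * h1 - e * hcc]
    | zero => rw [mulVec_zero, smul_zero]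
    | add a b _ _ iha ihb => rw [mulVec_add, iha, ihb, smul_add]
    | smul k a _ iha => rw [mulVec_smul, iha, smul_comm]
  have hperpfix : ∀ t ∈ HypQuad.perp Q L, mat Q s.1 *ᵥ t = c' • t := fun t ht =>
    hgen t (mem_span_singular hr hr' hQr hQr' hrr ht)
  obtain ⟨x1, hx1, hx1'⟩ := exists_pick G (notMem_swap hu0 hvu)
  obtain ⟨x2, hx2, hx2'⟩ := exists_pick G hvu
  have hx1v := hx1' v (Submodule.mem_span_singleton_self v)
  have hx2u := hx2' u (Submodule.mem_span_singleton_self u)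
  have hdelta : ∀ x : ι → F, c' • (mat Q s.1 *ᵥ x) - x ∈ L := by
    intro x
    rw [← perp_perp Q G.nd L, HypQuad.mem_perp]
    intro t ht
    have h1 := polar_act Q s.1 t x
    rw [hperpfix t ht, QuadraticMap.polar_smul_left, smul_eq_mul] at h1
    rw [QuadraticMap.polar_sub_right, QuadraticMap.polar_smul_right, smul_eq_mul, h1, sub_self]
  have hsp' : ∀ x : ι → F, ∃ a b : F, c' • (mat Q s.1 *ᵥ x) = x + a • u + b • v := fun x => by
    have h1 := hdelta x
    rw [hsp] at h1
    obtain ⟨a, b, hab⟩ := Submodule.mem_span_pair.1 h1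
    exact ⟨a, b, by rw [add_assoc, hab, add_sub_cancel]⟩
  obtain ⟨a1, b1, hd1⟩ := hsp' x1
  obtain ⟨a2, b2, hd2⟩ := hsp' x2
  have hQ' : ∀ x, Q (c' • (mat Q s.1 *ᵥ x)) = Q x := fun x => by
    rw [q_smul, (mem_iff Q).mp s.1.2, hcc, one_mul]
  have hB : B' (c' • (mat Q s.1 *ᵥ x1)) (c' • (mat Q s.1 *ᵥ x2)) = B' x1 x2 := by
    rw [QuadraticMap.polar_smul_left, QuadraticMap.polar_smul_right, polar_act, smul_eq_mul, smul_eq_mul, ← mul_assoc,
      hcc, one_mul]
  have hQu := hL.2 u hu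
  have hQv := hL.2 v hv
  have huv := hL.polar hu hv
  have ha1 : a1 = 0 := by
    have h1 := hQ' x1
    rw [hd1, WittQuad.val_smul_add, WittQuad.val_smul_add, QuadraticMap.polar_add_left, QuadraticMap.polar_smul_left,
      hQu, hQv, huv, comm' x1 u, comm' x1 v, hx1, hx1v, smul_eq_mul] at h1
    linear_combination h1
  have hb2 : b2 = 0 := by
    have h1 := hQ' x2
    rw [hd2, WittQuad.val_smul_add, WittQuad.val_smul_add, QuadraticMap.polar_add_left, QuadraticMap.polar_smul_left,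
      hQu, hQv, huv, comm' x2 u, comm' x2 v, hx2, hx2u, smul_eq_mul] at h1
    linear_combination h1
  have hab : a2 + b1 = 0 := by
    rw [hd1, hd2, ha1, hb2, zero_smul, zero_smul, add_zero, add_zero] at hB
    simp only [QuadraticMap.polar_add_left, QuadraticMap.polar_add_right, QuadraticMap.polar_smul_left,
      QuadraticMap.polar_smul_right, smul_eq_mul, comm' v u, huv, comm' x1 u, hx1, hx2, mul_one, mul_zero,
      add_zero] at hB
    linear_combination hB
  have key : ∀ x, mat Q s.1 *ᵥ x = c' • (mat Q (sg u (b1 • v)) *ᵥ x) := by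
    intro x
    have hy : x - B' u x • x1 - B' v x • x2 ∈ HypQuad.perp Q L := by
      rw [HypQuad.mem_perp]
      intro w hw
      rw [hsp] at hw
      obtain ⟨p, q, rfl⟩ := Submodule.mem_span_pair.1 hw
      simp only [QuadraticMap.polar_add_left, QuadraticMap.polar_smul_left, QuadraticMap.polar_sub_right,
        QuadraticMap.polar_smul_right, smul_eq_mul, hx1, hx2, hx1v, hx2u, mul_one, mul_zero]
      ring
    have h1 := hperpfix _ hy
    rw [mulVec_sub, mulVec_sub, mulVec_smul, mulVec_smul] at h1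
    have h2 : c' • (mat Q s.1 *ᵥ x) = x + (B' u x * b1) • v + (B' v x * a2) • u := by
      have h3 := congrArg (c' • ·) h1
      have hk : ∀ k : F, c' * (c' * k) = k := fun k => by linear_combination k * hcc
      simp only [smul_sub, smul_smul, hcc, hk] at h3
      rw [show c' * B' u x = B' u x * c' by ring, show c' * B' v x = B' v x * c' by ring, ← smul_smul (B' u x),
        ← smul_smul (B' v x), hd1, hd2, ha1, hb2] at h3
      linear_combination (norm := module) h3
    rw [sg_apply_singular hQu (by rw [q_smul, hQv, mul_zero]) (by rw [QuadraticMap.polar_smul_right, huv, smul_zero]),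
      QuadraticMap.polar_smul_left, smul_eq_mul, show -(b1 * B' v x) = B' v x * a2 by linear_combination -(B' v x) * hab,
      smul_smul, ← h2, smul_smul, hcc, one_smul]
  have hcen : s⁻¹ * (⟨sg u (b1 • v), sg_mem G u (b1 • v)⟩ : Om) ∈ Subgroup.center Om := by
    refine mem_center_of_scalar Q _ (c := c') (Matrix.toLin'.injective (LinearMap.ext fun x => ?_))
    rw [Matrix.toLin'_apply, Matrix.toLin'_apply, smul_mulVec, one_mulVec, Subgroup.coe_mul, Subgroup.coe_inv, mat,
      mulVec_mul]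
    show mat Q s.1⁻¹ *ᵥ (mat Q (sg u (b1 • v)) *ᵥ x) = c' • x
    have h2 : mat Q (sg u (b1 • v)) *ᵥ x = mat Q s.1 *ᵥ (c' • x) := by
      rw [mulVec_smul, key x, smul_smul, hcc, one_smul]
    rw [h2, mulVec_inv_cancel]
  rw [show (QuotientGroup.mk s : Pm) = ps G u (b1 • v) from QuotientGroup.eq.2 hcen]
  exact ps_mem_R G hu (L.smul_mem b1 hv)

theorem exists_sylow_zc (p : ℕ) [Fact p.Prime] [CharP F p] {L : Sub'} (hL : IsLine Q L) :
    ∃ S : Sylow p Pm, zc (S : Subgroup Pm) = R G L := by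
  obtain ⟨S, hS⟩ := (qL_isPGroup G p L).exists_le_sylow
  refine ⟨S, ?_⟩
  have hle : R G L ≤ qL L := by
    refine (Subgroup.closure_le _).2 ?_
    rintro _ ⟨a, ha, b, hb, rfl⟩
    exact ps_mem_qL G hL ha (HypQuad.le_perp Q hL.2 hb)
  have hzle : zc (S : Subgroup Pm) ≤ R G L := by
    rintro x ⟨-, hc⟩
    obtain ⟨s, rfl⟩ := QuotientGroup.mk_surjective x
    exact centralizer_qL G hL s fun y hy => hc y (hS hy)
  refine le_antisymm hzle fun x hx => ⟨hS (hle hx), ?_⟩
  obtain ⟨x0, hx0, hx01⟩ := exists_ne_one G hL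
  haveI : Nontrivial ↥(S : Subgroup Pm) :=
    ⟨⟨⟨x0, hS (hle hx0)⟩, 1, fun h => hx01 (congrArg Subtype.val h)⟩⟩
  haveI : Finite Pm := inferInstance
  obtain ⟨⟨⟨z, hzS⟩, hzc⟩, hz1⟩ := @exists_ne _ S.isPGroup'.center_nontrivial 1
  have hz' : ∀ t ∈ (S : Subgroup Pm), t * z = z * t := fun t ht =>
    congrArg Subtype.val (Subgroup.mem_center_iff.1 hzc ⟨t, ht⟩)
  have hz1' : z ≠ 1 := fun h => hz1 (Subtype.ext (Subtype.ext h))
  obtain ⟨u, hu, hu0⟩ := hL.ne_zero
  obtain ⟨v, hv, hvu, hsp⟩ := hL.basis hu hu0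
  have hzR : z ∈ R G L := hzle ⟨hzS, fun t ht => hz' t ht⟩
  obtain ⟨c, rfl⟩ := (mem_R G hL hu hv hsp).1 hzR
  obtain ⟨d, rfl⟩ := (mem_R G hL hu hv hsp).1 hx
  have hc0 : c ≠ 0 := fun h => hz1' (by rw [h, zero_smul, ps_zero G (hL.2 u hu)])
  intro t ht
  obtain ⟨g, rfl⟩ := QuotientGroup.mk_surjective t
  have hcv := L.smul_mem c hv
  have e := ps_conj G g (hL.2 u hu) (hL.polar hu hcv)
  rw [hz' _ ht, mul_inv_cancel_right] at e
  have hg : L.map (Matrix.toLin' (mat Q g.1)) = L := by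
    refine line_eq_of_mem G (map_isLine g.1 hL) hL (x := ps G u (c • v)) ?_ (ps_mem_R G hu hcv) hz1'
    rw [e]
    exact ps_mem_R G ⟨u, hu, Matrix.toLin'_apply _ _⟩ ⟨_, hcv, Matrix.toLin'_apply _ _⟩
  have hmem : ∀ w ∈ L, mat Q g.1 *ᵥ w ∈ L := fun w hw => by
    have : Matrix.toLin' (mat Q g.1) w ∈ L.map (Matrix.toLin' (mat Q g.1)) := ⟨w, hw, rfl⟩
    rwa [hg, Matrix.toLin'_apply] at this
  have hgu := hmem u hu
  have hgv := hmem v hv
  rw [hsp] at hgu hgv
  obtain ⟨a1, a2, ha⟩ := Submodule.mem_span_pair.1 hgu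
  obtain ⟨b1, b2, hb⟩ := Submodule.mem_span_pair.1 hgv
  have hre : ∀ k : F, ps G (mat Q g.1 *ᵥ u) (mat Q g.1 *ᵥ (k • v)) = ps G u (((a1 * b2 - a2 * b1) * k) • v) := by
    intro k
    rw [mulVec_smul, ← ha, ← hb, smul_add, smul_smul, smul_smul,
      ps_congr G (sg_rebase (hL.2 u hu) (hL.2 v hv) (hL.polar hu hv) a1 a2 (k * b1) (k * b2))]
    congr 2
    ring
  rw [hre c] at e
  have hdet : a1 * b2 - a2 * b1 = 1 := by
    have h1 := ps_inj G (hL.2 u hu) hu0 (hL.polar hu hcv) (hL.polar hu (L.smul_mem _ hv)) e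
    rw [← sub_smul] at h1
    by_contra hne
    refine hvu ((Submodule.smul_mem_iff _ ?_).1 h1)
    intro h0
    exact hne (mul_right_cancel₀ hc0 (by linear_combination -h0))
  rw [← mul_inv_eq_iff_eq_mul, ps_conj G g (hL.2 u hu) (hL.polar hu (L.smul_mem d hv)), hre d, hdet, one_mul]

/-- Automorphisms permute the root groups. -/
theorem exists_R_map (α : MulAut Pm) {L : Sub'} (hL : IsLine Q L) :
    ∃ M, IsLine Q M ∧ (R G L).map α.toMonoidHom = R G M := by
  obtain ⟨p, hp⟩ := CharP.exists F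
  haveI : Fact p.Prime := ⟨(CharP.char_is_prime_or_zero F p).resolve_right (CharP.char_ne_zero_of_finite F p)⟩
  obtain ⟨S, hS⟩ := exists_sylow_zc G p hL
  let S' : Sylow p Pm := S.mapSurjective (f := α.toMonoidHom) α.surjective
  obtain ⟨y, hy⟩ := MulAction.exists_smul_eq Pm S S'
  have hy' : (S : Subgroup Pm).map (MulAut.conj y).toMonoidHom = (S : Subgroup Pm).map α.toMonoidHom := by
    have := congrArg (fun T : Sylow p Pm => (T : Subgroup Pm)) hy
    simp only [Sylow.coe_subgroup_smul] at this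
    exact this
  obtain ⟨g, rfl⟩ := QuotientGroup.mk_surjective y
  exact ⟨_, map_isLine g.1 hL, by rw [← R_map_conj G g hL, ← hS, ← zc_map α, ← zc_map (MulAut.conj _), hy']⟩

end Cfsg.Lib.OrthAut
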