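import Cfsg.Agent.Known.OrthAut.Basic

/-!
Long root groups of `PΩ(Q)`: one for each totally singular line; commutation and adjacency.
-/

set_option autoImplicit false
set_option linter.unusedSectionVars false
set_option linter.style.haveILetI false

namespace Cfsg.Lib.OrthAut

open Matrix Cfsg.Lib.Classical Cfsg.Lib.Classical.Refl

universe u

variable {F : Type u} [Field F] [Finite F] {ι : Type} [Fintype ι] [DecidableEq ι] {Q : QuadraticForm F (ι → F)}

set_option quotPrecheck false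
local notation "B'" => QuadraticMap.polar (DFunLike.coe Q)
local notation "Iso" => Cfsg.isometryGroup F (DFunLike.coe Q)
local notation "Om" => Cfsg.Omega F (DFunLike.coe Q)
local notation "Pm" => Cfsg.POmega F (DFunLike.coe Q)
local notation "Sub'" => Submodule F (ι → F)

variable (Q) in
/-- A totally singular line. -/
def IsLine (L : Sub') : Prop := Module.finrank F L = 2 ∧ ∀ x ∈ L, Q x = 0

theorem IsLine.polar {L : Sub'} (h : IsLine Q L) {a b : ι → F} (ha : a ∈ L) (hb : b ∈ L) : B' a b = 0 :=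
  HypQuad.polar_zero_of_singular Q h.2 ha hb

theorem IsLine.basis {L : Sub'} (h : IsLine Q L) {u : ι → F} (hu : u ∈ L) (hu0 : u ≠ 0) :
    ∃ v ∈ L, v ∉ Submodule.span F {u} ∧ L = Submodule.span F {u, v} := by
  obtain ⟨v, hv, hvu⟩ : ∃ v ∈ L, v ∉ Submodule.span F {u} := by
    by_contra hc
    push Not at hc
    have := Submodule.finrank_mono (show L ≤ Submodule.span F {u} from hc)
    rw [finrank_span_singleton hu0, h.1] at this
    omega
  refine ⟨v, hv, hvu, (Submodule.eq_of_le_of_finrank_le ?_ ?_).symm⟩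
  · rw [Submodule.span_le]; rintro x (rfl | rfl) <;> assumption
  · rw [h.1]
    have hlt : Submodule.span F {u} < Submodule.span F ({u, v} : Set (ι → F)) :=
      lt_of_le_of_ne (Submodule.span_mono (by simp)) fun e => hvu (by rw [e]; exact Submodule.subset_span (by simp))
    have := Submodule.finrank_lt_finrank_of_lt hlt
    rw [finrank_span_singleton hu0] at this
    omega

theorem IsLine.ne_zero {L : Sub'} (h : IsLine Q L) : ∃ u ∈ L, u ≠ (0 : ι → F) :=
  L.exists_mem_ne_zero_of_ne_bot fun e => by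
    have := h.1
    rw [e, finrank_bot] at this
    omega

theorem IsLine.eq_of_le {L M : Sub'} (h : IsLine Q L) (h' : IsLine Q M) (hle : L ≤ M) : L = M :=
  Submodule.eq_of_le_of_finrank_le hle (by rw [h.1, h'.1])

theorem notMem_swap {u v : ι → F} (hu0 : u ≠ 0) (hv : v ∉ Submodule.span F {u}) : u ∉ Submodule.span F {v} := by
  intro hm
  obtain ⟨c, hc⟩ := Submodule.mem_span_singleton.1 hm
  have hc0 : c ≠ 0 := fun h => hu0 (by rw [← hc, h, zero_smul])
  exact hv (Submodule.mem_span_singleton.2 ⟨c⁻¹, by rw [← hc, smul_smul, inv_mul_cancel₀ hc0, one_smul]⟩)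

theorem isLine_span {u v : ι → F} (hu : Q u = 0) (hv : Q v = 0) (huv : B' u v = 0) (hu0 : u ≠ 0)
    (hvu : v ∉ Submodule.span F {u}) : IsLine Q (Submodule.span F {u, v}) := by
  refine ⟨le_antisymm (finrank_span_two u v) ?_, fun x hx => q_line hu hv huv hx⟩
  have hlt : Submodule.span F {u} < Submodule.span F ({u, v} : Set (ι → F)) :=
    lt_of_le_of_ne (Submodule.span_mono (by simp)) fun e => hvu (by rw [e]; exact Submodule.subset_span (by simp))
  have := Submodule.finrank_lt_finrank_of_lt hlt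
  rw [finrank_span_singleton hu0] at this
  omega

/-- Two distinct lines meet in at most a point. -/
theorem meet_span {L M : Sub'} (hL : IsLine Q L) (hM : IsLine Q M) (hne : L ≠ M) {w y : ι → F} (hw : w ≠ 0)
    (hwL : w ∈ L) (hwM : w ∈ M) (hyL : y ∈ L) (hyM : y ∈ M) : y ∈ Submodule.span F {w} := by
  by_contra hy
  have hle : Submodule.span F {w, y} ≤ L := by rw [Submodule.span_le]; rintro x (rfl | rfl) <;> assumption
  have hle' : Submodule.span F {w, y} ≤ M := by rw [Submodule.span_le]; rintro x (rfl | rfl) <;> assumption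
  have h2 := isLine_span (hL.2 w hwL) (hL.2 y hyL) (hL.polar hwL hyL) hw hy
  exact hne ((h2.eq_of_le hL hle).symm.trans (h2.eq_of_le hM hle'))

theorem map_isLine (g : Iso) {L : Sub'} (h : IsLine Q L) : IsLine Q (L.map (Matrix.toLin' (mat Q g))) := by
  refine ⟨?_, ?_⟩
  · rw [← h.1]
    exact (Submodule.equivMapOfInjective _ (fun x y e => by
      rw [Matrix.toLin'_apply, Matrix.toLin'_apply] at e
      rw [← mulVec_inv_cancel Q g x, ← mulVec_inv_cancel Q g y, e]) L).finrank_eq.symm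
  · rintro _ ⟨x, hx, rfl⟩
    rw [Matrix.toLin'_apply, (mem_iff Q).mp g.2, h.2 x hx]

variable (G : Good Q)

/-- The root group of a line. -/
noncomputable def R (L : Sub') : Subgroup Pm := Subgroup.closure {x | ∃ a ∈ L, ∃ b ∈ L, x = ps G a b}

theorem ps_mem_R {L : Sub'} {a b : ι → F} (ha : a ∈ L) (hb : b ∈ L) : ps G a b ∈ R G L :=
  Subgroup.subset_closure ⟨a, ha, b, hb, rfl⟩

theorem mem_R {L : Sub'} (hL : IsLine Q L) {u v : ι → F} (hu : u ∈ L) (hv : v ∈ L)
    (hsp : L = Submodule.span F {u, v}) {x : Pm} : x ∈ R G L ↔ ∃ c : F, x = ps G u (c • v) := by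
  have huv : ∀ c : F, B' u (c • v) = 0 := fun c => hL.polar hu (L.smul_mem c hv)
  constructor
  · intro hx
    induction hx using Subgroup.closure_induction with
    | mem x hx =>
      obtain ⟨a, ha, b, hb, rfl⟩ := hx
      rw [hsp] at ha hb
      obtain ⟨a1, a2, rfl⟩ := Submodule.mem_span_pair.1 ha
      obtain ⟨b1, b2, rfl⟩ := Submodule.mem_span_pair.1 hb
      exact ⟨_, ps_congr G (sg_rebase (hL.2 u hu) (hL.2 v hv) (hL.polar hu hv) a1 a2 b1 b2)⟩
    | one => exact ⟨0, by rw [zero_smul, ps_zero G (hL.2 u hu)]⟩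
    | mul x y _ _ hx hy =>
      obtain ⟨c, rfl⟩ := hx
      obtain ⟨d, rfl⟩ := hy
      exact ⟨c + d, by rw [ps_add G (hL.2 u hu) (huv c) (huv d), add_smul]⟩
    | inv x _ hx =>
      obtain ⟨c, rfl⟩ := hx
      refine ⟨-c, inv_eq_of_mul_eq_one_right ?_⟩
      rw [ps_add G (hL.2 u hu) (huv c) (huv (-c)), ← add_smul, add_neg_cancel, zero_smul, ps_zero G (hL.2 u hu)]
  · rintro ⟨c, rfl⟩
    exact ps_mem_R G hu (L.smul_mem c hv)

theorem ps_ne_one {u v : ι → F} (hu : Q u = 0) (hu0 : u ≠ 0) (hv : B' u v = 0)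
    (hvu : v ∉ Submodule.span F {u}) : ps G u v ≠ 1 := by
  intro h
  rw [← ps_zero G hu] at h
  exact hvu (by simpa using ps_inj G hu hu0 hv (QuadraticMap.polar_zero_right Q u) h)

include G in
/-- Equal root elements have equal lines. -/
theorem sg_span {u v : ι → F} {N : Sub'} (hN : IsLine Q N) {a b : ι → F} (ha : a ∈ N) (hb : b ∈ N) (hu : Q u = 0)
    (hv : Q v = 0) (huv : B' u v = 0) (hu0 : u ≠ 0) (hvu : v ∉ Submodule.span F {u})
    (h : (sg u v : Iso) = sg a b) : u ∈ N ∧ v ∈ N := by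
  have key : ∀ x, x + B' u x • v + (-B' v x) • u - x ∈ N := fun x => by
    have := congrArg (fun g : Iso => mat Q g *ᵥ x) h
    simp only [sg_apply_singular hu hv huv, sg_apply_singular (hN.2 a ha) (hN.2 b hb) (hN.polar ha hb)] at this
    rw [this, show x + B' a x • b + (-B' b x) • a - x = B' a x • b + (-B' b x) • a by abel]
    exact add_mem (N.smul_mem _ hb) (N.smul_mem _ ha)
  obtain ⟨x, hx, hx'⟩ := exists_pick G (notMem_swap hu0 hvu)
  obtain ⟨y, hy, hy'⟩ := exists_pick G hvu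
  constructor
  · have := key y
    rw [hy, hy' u (Submodule.mem_span_singleton_self u)] at this
    simpa using this
  · have := key x
    rw [hx, hx' v (Submodule.mem_span_singleton_self v)] at this
    simpa using this

/-- A nontrivial root element lies in one root group only. -/
theorem line_eq_of_mem {L M : Sub'} (hL : IsLine Q L) (hM : IsLine Q M) {x : Pm} (h : x ∈ R G L) (h' : x ∈ R G M)
    (hx : x ≠ 1) : L = M := by
  obtain ⟨u, hu, hu0⟩ := hL.ne_zero
  obtain ⟨v, hv, hvu, hsp⟩ := hL.basis hu hu0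
  obtain ⟨a, ha, ha0⟩ := hM.ne_zero
  obtain ⟨b, hb, -, hsp'⟩ := hM.basis ha ha0
  obtain ⟨c, rfl⟩ := (mem_R G hL hu hv hsp).1 h
  obtain ⟨d, hd⟩ := (mem_R G hM ha hb hsp').1 h'
  have hc : c ≠ 0 := fun e => hx (by rw [e, zero_smul, ps_zero G (hL.2 u hu)])
  have hcv : c • v ∉ Submodule.span F {u} := fun e => hvu ((Submodule.smul_mem_iff _ hc).1 e)
  obtain ⟨h1, h2⟩ := sg_span G hM ha (M.smul_mem d hb) (hL.2 u hu) (hL.2 _ (L.smul_mem c hv))
    (hL.polar hu (L.smul_mem c hv)) hu0 hcv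
    (sg_eq_of_ps' G hd (hL.2 u hu) (hL.polar hu (L.smul_mem c hv)) (hM.2 a ha) (hM.polar ha (M.smul_mem d hb)))
  refine hL.eq_of_le hM ?_
  rw [hsp, Submodule.span_le]
  rintro y (rfl | rfl)
  exacts [h1, (Submodule.smul_mem_iff _ hc).1 h2]

theorem exists_ne_one {L : Sub'} (hL : IsLine Q L) : ∃ x ∈ R G L, x ≠ 1 := by
  obtain ⟨u, hu, hu0⟩ := hL.ne_zero
  obtain ⟨v, hv, hvu, -⟩ := hL.basis hu hu0
  exact ⟨_, ps_mem_R G hu hv, ps_ne_one G (hL.2 u hu) hu0 (hL.polar hu hv) hvu⟩

theorem R_inj {L M : Sub'} (hL : IsLine Q L) (hM : IsLine Q M) (h : R G L = R G M) : L = M := by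
  obtain ⟨x, hx, hx1⟩ := exists_ne_one G hL
  exact line_eq_of_mem G hL hM hx (h ▸ hx) hx1

theorem R_conj_mem (g : Om) {L : Sub'} (hL : IsLine Q L) {x : Pm} (hx : x ∈ R G L) :
    (QuotientGroup.mk g : Pm) * x * (QuotientGroup.mk g)⁻¹ ∈ R G (L.map (Matrix.toLin' (mat Q g.1))) := by
  obtain ⟨u, hu, hu0⟩ := hL.ne_zero
  obtain ⟨v, hv, -, hsp⟩ := hL.basis hu hu0
  obtain ⟨c, rfl⟩ := (mem_R G hL hu hv hsp).1 hx
  rw [ps_conj G g (hL.2 u hu) (hL.polar hu (L.smul_mem c hv))]
  exact ps_mem_R G ⟨u, hu, Matrix.toLin'_apply _ _⟩ ⟨_, L.smul_mem c hv, Matrix.toLin'_apply _ _⟩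

theorem map_map_inv (g : Iso) (L : Sub') :
    (L.map (Matrix.toLin' (mat Q g⁻¹))).map (Matrix.toLin' (mat Q g)) = L := by
  rw [← Submodule.map_comp, ← Matrix.toLin'_mul,
    show mat Q g * mat Q g⁻¹ = mat Q (g * g⁻¹) from rfl, mul_inv_cancel,
    show mat Q (1 : Iso) = 1 from rfl, Matrix.toLin'_one, Submodule.map_id]

theorem R_map_conj (g : Om) {L : Sub'} (hL : IsLine Q L) :
    (R G L).map (MulAut.conj (QuotientGroup.mk g : Pm)).toMonoidHom = R G (L.map (Matrix.toLin' (mat Q g.1))) := by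
  ext x
  constructor
  · rintro ⟨y, hy, rfl⟩
    exact R_conj_mem G g hL hy
  · intro hx
    refine ⟨(QuotientGroup.mk g)⁻¹ * x * QuotientGroup.mk g, ?_, ?_⟩
    · have := R_conj_mem G g⁻¹ (map_isLine g.1 hL) hx
      rw [QuotientGroup.mk_inv, inv_inv, Subgroup.coe_inv] at this
      have e : (L.map (Matrix.toLin' (mat Q g.1))).map (Matrix.toLin' (mat Q g.1⁻¹)) = L := by
        simpa using map_map_inv g.1⁻¹ L
      rwa [e] at this
    · show (QuotientGroup.mk g : Pm) * ((QuotientGroup.mk g)⁻¹ * x * QuotientGroup.mk g) * (QuotientGroup.mk g)⁻¹ = x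
      group

/-- The root groups commute elementwise. -/
def Comm (L M : Sub') : Prop := ∀ x ∈ R G L, ∀ y ∈ R G M, x * y = y * x

/-- Some product of root elements of the two lines is a root element. -/
def Adj (L M : Sub') : Prop :=
  L ≠ M ∧ Comm G L M ∧ ∃ x ∈ R G L, ∃ y ∈ R G M, x ≠ 1 ∧ y ≠ 1 ∧ ∃ N, IsLine Q N ∧ x * y ∈ R G N

theorem comm_iff {L M : Sub'} (hL : IsLine Q L) (hM : IsLine Q M) :
    Comm G L M ↔ L ⊓ M ≠ ⊥ ∨ ∀ a ∈ L, ∀ b ∈ M, B' a b = 0 := by
  constructor
  · intro hc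
    by_contra hh
    push Not at hh
    obtain ⟨hd, a0, ha0, b0, hb0, hab⟩ := hh
    obtain ⟨u, hu, hu0⟩ := hL.ne_zero
    obtain ⟨v, hv, hvu, hsp⟩ := hL.basis hu hu0
    obtain ⟨a, ha, ha1⟩ := hM.ne_zero
    obtain ⟨b, hb, hba, hsp'⟩ := hM.basis ha ha1
    set g : Om := ⟨sg a b, sg_mem G a b⟩
    have hfix : L.map (Matrix.toLin' (mat Q g.1)) = L := by
      refine line_eq_of_mem G (map_isLine g.1 hL) hL (x := ps G u v) ?_ (ps_mem_R G hu hv)
        (ps_ne_one G (hL.2 u hu) hu0 (hL.polar hu hv) hvu)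
      have h1 := R_conj_mem G g hL (ps_mem_R G hu hv)
      have e : (QuotientGroup.mk g : Pm) * ps G u v * (QuotientGroup.mk g)⁻¹ = ps G u v := by
        rw [mul_inv_eq_iff_eq_mul]
        exact (hc _ (ps_mem_R G hu hv) _ (ps_mem_R G ha hb)).symm
      rwa [e] at h1
    have hzero : ∀ w ∈ L, B' a w = 0 ∧ B' b w = 0 := by
      intro w hw
      have h1 : mat Q g.1 *ᵥ w ∈ L := by
        have : Matrix.toLin' (mat Q g.1) w ∈ L.map (Matrix.toLin' (mat Q g.1)) := ⟨w, hw, rfl⟩
        rwa [hfix, Matrix.toLin'_apply] at this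
      have h2 : B' a w • b + (-B' b w) • a ∈ L ⊓ M := by
        refine ⟨?_, add_mem (M.smul_mem _ hb) (M.smul_mem _ ha)⟩
        have := sub_mem h1 hw
        rw [show mat Q g.1 *ᵥ w = w + B' a w • b + (-B' b w) • a from
          sg_apply_singular (hM.2 a ha) (hM.2 b hb) (hM.polar ha hb) w] at this
        simpa [add_assoc] using this
      rw [hd, Submodule.mem_bot] at h2
      by_cases hz : B' a w = 0
      · rw [hz, zero_smul, zero_add, smul_eq_zero, neg_eq_zero] at h2
        exact ⟨hz, h2.resolve_right ha1⟩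
      · exfalso
        refine hba (Submodule.mem_span_singleton.2 ⟨(B' a w)⁻¹ * B' b w, ?_⟩)
        rw [neg_smul, ← sub_eq_add_neg, sub_eq_zero] at h2
        rw [mul_smul, ← h2, smul_smul, inv_mul_cancel₀ hz, one_smul]
    rw [hsp'] at hb0
    obtain ⟨s, t, rfl⟩ := Submodule.mem_span_pair.1 hb0
    obtain ⟨h1, h2⟩ := hzero a0 ha0
    refine hab ?_
    rw [QuadraticMap.polar_add_right, QuadraticMap.polar_smul_right, QuadraticMap.polar_smul_right, comm' a0 a,
      comm' a0 b, h1, h2]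
    simp
  · rintro (h | h)
    · obtain ⟨w, ⟨hwL, hwM⟩, hw0⟩ := Submodule.exists_mem_ne_zero_of_ne_bot h
      obtain ⟨v, hv, -, hsp⟩ := hL.basis hwL hw0
      obtain ⟨b, hb, -, hsp'⟩ := hM.basis hwM hw0
      intro x hx y hy
      obtain ⟨c, rfl⟩ := (mem_R G hL hwL hv hsp).1 hx
      obtain ⟨d, rfl⟩ := (mem_R G hM hwM hb hsp').1 hy
      have h1 := hL.polar hwL (L.smul_mem c hv)
      have h2 := hM.polar hwM (M.smul_mem d hb)
      rw [ps_add G (hL.2 w hwL) h1 h2, ps_add G (hL.2 w hwL) h2 h1, add_comm]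
    · obtain ⟨u, hu, hu0⟩ := hL.ne_zero
      obtain ⟨v, hv, -, hsp⟩ := hL.basis hu hu0
      obtain ⟨a, ha, ha0⟩ := hM.ne_zero
      obtain ⟨b, hb, -, hsp'⟩ := hM.basis ha ha0
      intro x hx y hy
      obtain ⟨c, rfl⟩ := (mem_R G hL hu hv hsp).1 hx
      obtain ⟨d, rfl⟩ := (mem_R G hM ha hb hsp').1 hy
      have hcv := L.smul_mem c hv
      have hdb := M.smul_mem d hb
      have e := ps_conj G (⟨sg u (c • v), sg_mem G u (c • v)⟩ : Om) (hM.2 a ha) (hM.polar ha hdb)
      rw [show mat Q (sg u (c • v)) *ᵥ a = a from sg_fix (hL.2 u hu) (hL.polar hu hcv) (h u hu a ha) (h _ hcv a ha),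
        show mat Q (sg u (c • v)) *ᵥ (d • b) = d • b from
          sg_fix (hL.2 u hu) (hL.polar hu hcv) (h u hu _ hdb) (h _ hcv _ hdb)] at e
      rw [← mul_inv_eq_iff_eq_mul]
      exact e

theorem adj_iff {L M : Sub'} (hL : IsLine Q L) (hM : IsLine Q M) :
    Adj G L M ↔ L ≠ M ∧ L ⊓ M ≠ ⊥ ∧ ∀ a ∈ L, ∀ b ∈ M, B' a b = 0 := by
  constructor
  · rintro ⟨hne, hc, x, hx, y, hy, hx1, hy1, N, hN, hxy⟩
    obtain ⟨c, hcN, hc0⟩ := hN.ne_zero
    obtain ⟨d, hdN, -, hspN⟩ := hN.basis hcN hc0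
    obtain ⟨e, he⟩ := (mem_R G hN hcN hdN hspN).1 hxy
    have hed := N.smul_mem e hdN
    rcases (comm_iff G hL hM).1 hc with hmeet | hperp
    · refine ⟨hne, hmeet, ?_⟩
      obtain ⟨w, ⟨hwL, hwM⟩, hw0⟩ := Submodule.exists_mem_ne_zero_of_ne_bot hmeet
      obtain ⟨v, hv, hvw, hsp⟩ := hL.basis hwL hw0
      obtain ⟨b, hb, hbw, hsp'⟩ := hM.basis hwM hw0
      obtain ⟨s, rfl⟩ := (mem_R G hL hwL hv hsp).1 hx
      obtain ⟨t, rfl⟩ := (mem_R G hM hwM hb hsp').1 hy
      have hs : s ≠ 0 := fun h => hx1 (by rw [h, zero_smul, ps_zero G (hL.2 w hwL)])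
      have ht : t ≠ 0 := fun h => hy1 (by rw [h, zero_smul, ps_zero G (hL.2 w hwL)])
      have h1 := hL.polar hwL (L.smul_mem s hv)
      have h2 := hM.polar hwM (M.smul_mem t hb)
      rw [ps_add G (hL.2 w hwL) h1 h2] at he
      set z := s • v + t • b with hz
      have hwz : B' w z = 0 := by rw [hz, QuadraticMap.polar_add_right, h1, h2, add_zero]
      have hzw : z ∉ Submodule.span F {w} := fun hm => hne (by
        have hzL : t • b ∈ L := by
          have : z ∈ L := (Submodule.span_le.2 (by simpa using hwL)) hm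
          rw [hz] at this
          exact (L.add_mem_iff_right (L.smul_mem s hv)).1 this
        by_contra hne'
        exact hbw (meet_span hL hM hne' hw0 hwL hwM ((L.smul_mem_iff ht).1 hzL) hb))
      obtain ⟨x, hx1', hx2⟩ := exists_pick G (notMem_swap hw0 hzw)
      have hx2' := hx2 z (Submodule.mem_span_singleton_self z)
      have himg := congrArg (fun g : Iso => mat Q g *ᵥ x)
        (sg_eq_of_ps' G he (hL.2 w hwL) hwz (hN.2 c hcN) (hN.polar hcN hed))
      simp only [sg_mulVec (hL.2 w hwL) hwz, hx1', hx2', sg_apply_singular (hN.2 c hcN) (hN.2 _ hed)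
        (hN.polar hcN hed), one_smul, neg_zero, mul_one, zero_sub] at himg
      have hmem : z + (-Q z) • w ∈ N := by
        rw [show z + (-Q z) • w = B' c x • (e • d) + (-B' (e • d) x) • c by
          linear_combination (norm := module) himg]
        exact add_mem (N.smul_mem _ hed) (N.smul_mem _ hcN)
      have hQz : Q z = 0 := by
        have := hN.2 _ hmem
        rwa [WittQuad.val_smul_add, hL.2 w hwL, comm' z w, hwz, mul_zero, mul_zero, add_zero, add_zero] at this
      rw [hz, q_add, hL.2 _ (L.smul_mem s hv), hM.2 _ (M.smul_mem t hb), QuadraticMap.polar_smul_left,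
        QuadraticMap.polar_smul_right, smul_eq_mul, smul_eq_mul, zero_add, zero_add, mul_eq_zero, mul_eq_zero] at hQz
      have hvb : B' v b = 0 := (hQz.resolve_left hs).resolve_left ht
      intro a ha a' ha'
      rw [hsp] at ha
      rw [hsp'] at ha'
      obtain ⟨p1, p2, rfl⟩ := Submodule.mem_span_pair.1 ha
      obtain ⟨r1, r2, rfl⟩ := Submodule.mem_span_pair.1 ha'
      simp [QuadraticMap.polar_add_left, QuadraticMap.polar_add_right, QuadraticMap.polar_smul_left,
        QuadraticMap.polar_smul_right, self_zero (hL.2 w hwL), hM.polar hwM hb, comm' v w, hL.polar hwL hv, hvb]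
    · refine ⟨hne, fun hd => ?_, hperp⟩
      obtain ⟨u, hu, hu0⟩ := hL.ne_zero
      obtain ⟨v, hv, hvu, hsp⟩ := hL.basis hu hu0
      obtain ⟨a, ha, ha0⟩ := hM.ne_zero
      obtain ⟨b, hb, hba, hsp'⟩ := hM.basis ha ha0
      obtain ⟨s, rfl⟩ := (mem_R G hL hu hv hsp).1 hx
      obtain ⟨t, rfl⟩ := (mem_R G hM ha hb hsp').1 hy
      have hs : s ≠ 0 := fun h => hx1 (by rw [h, zero_smul, ps_zero G (hL.2 u hu)])
      have ht : t ≠ 0 := fun h => hy1 (by rw [h, zero_smul, ps_zero G (hM.2 a ha)])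
      have hsv := L.smul_mem s hv
      have htb := M.smul_mem t hb
      obtain ⟨y, hy0, hf⟩ := exists_perp_ne G ![u, s • v, a, t • b, c, e • d] (by have := G.big; omega)
      have f1 : mat Q (sg u (s • v)) *ᵥ y = y := sg_fix (hL.2 u hu) (hL.polar hu hsv) (hf 0) (hf 1)
      have f2 : mat Q (sg a (t • b)) *ᵥ y = y := sg_fix (hM.2 a ha) (hM.polar ha htb) (hf 2) (hf 3)
      have key : (sg u (s • v) * sg a (t • b) : Iso) = sg c (e • d) :=
        congrArg Subtype.val (mk_eq_of_fix G (s := ⟨_, sg_mem G u (s • v)⟩ * ⟨_, sg_mem G a (t • b)⟩)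
          (t := ⟨_, sg_mem G c (e • d)⟩) (by rw [QuotientGroup.mk_mul]; exact he) hy0
          (by
            show mat Q (sg u (s • v) * sg a (t • b)) *ᵥ y = y
            rw [mat, mulVec_mul]
            exact (congrArg _ f2).trans f1)
          (sg_fix (hN.2 c hcN) (hN.polar hcN hed) (hf 4) (hf 5)))
      have img : ∀ x, B' u x • (s • v) + (-B' (s • v) x) • u + (B' a x • (t • b) + (-B' (t • b) x) • a) ∈ N := by
        intro x
        have h1 := congrArg (fun g : Iso => mat Q g *ᵥ x) key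
        simp only [mat, mulVec_mul] at h1
        change mat Q _ *ᵥ (mat Q _ *ᵥ x) = mat Q _ *ᵥ x at h1
        simp only [sg_apply_singular (hM.2 a ha) (hM.2 _ htb) (hM.polar ha htb),
          sg_apply_singular (hL.2 u hu) (hL.2 _ hsv) (hL.polar hu hsv),
          sg_apply_singular (hN.2 c hcN) (hN.2 _ hed) (hN.polar hcN hed), QuadraticMap.polar_add_right,
          QuadraticMap.polar_smul_right, hperp u hu a ha, hperp u hu _ htb, hperp _ hsv a ha, hperp _ hsv _ htb,
          smul_zero, add_zero] at h1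
        rw [show B' u x • (s • v) + (-B' (s • v) x) • u + (B' a x • (t • b) + (-B' (t • b) x) • a) =
          B' c x • (e • d) + (-B' (e • d) x) • c by linear_combination (norm := module) h1]
        exact add_mem (N.smul_mem _ hed) (N.smul_mem _ hcN)
      have notin : ∀ {p q : ι → F} {L' M' : Sub'}, IsLine Q L' → L' ⊓ M' = ⊥ → p ∈ L' → p ∉ Submodule.span F {q} →
          q ∈ L' → p ∉ Submodule.span F {q} ⊔ M' := by
        intro p q L' M' hL' hd' hp hpq hq hm
        obtain ⟨z, hz, z', hz', e'⟩ := Submodule.mem_sup.1 hm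
        have hzL : z' ∈ L' ⊓ M' := ⟨by
          rw [show z' = p - z by rw [← e']; abel]
          exact sub_mem hp ((Submodule.span_singleton_le_iff_mem _ _).2 hq hz), hz'⟩
        rw [hd', Submodule.mem_bot] at hzL
        exact hpq (by rwa [← e', hzL, add_zero])
      have hsvu : s • v ∉ Submodule.span F {u} := fun h => hvu ((Submodule.smul_mem_iff _ hs).1 h)
      have hvN : s • v ∈ N := by
        obtain ⟨x, h1, h2⟩ := exists_pick G (notin hL hd hu (notMem_swap hu0 hsvu) hsv)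
        have := img x
        rw [h1, h2 _ (Submodule.mem_sup_left (Submodule.mem_span_singleton_self _)), h2 a (Submodule.mem_sup_right ha),
          h2 _ (Submodule.mem_sup_right htb)] at this
        simpa using this
      have huN : u ∈ N := by
        obtain ⟨x, h1, h2⟩ := exists_pick G (notin hL hd hsv hsvu hu)
        have := img x
        rw [h1, h2 _ (Submodule.mem_sup_left (Submodule.mem_span_singleton_self _)), h2 a (Submodule.mem_sup_right ha),
          h2 _ (Submodule.mem_sup_right htb)] at this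
        simpa using this
      have hbN : t • b ∈ N := by
        have htba : t • b ∉ Submodule.span F {a} := fun h => hba ((Submodule.smul_mem_iff _ ht).1 h)
        obtain ⟨x, h1, h2⟩ := exists_pick G (notin hM (inf_comm M L ▸ hd) ha (notMem_swap ha0 htba) htb)
        have := img x
        rw [h1, h2 _ (Submodule.mem_sup_left (Submodule.mem_span_singleton_self _)), h2 u (Submodule.mem_sup_right hu),
          h2 _ (Submodule.mem_sup_right hsv)] at this
        simpa using this
      have hLN : L = N := hL.eq_of_le hN (by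
        rw [hsp, Submodule.span_le]
        rintro z (rfl | rfl)
        exacts [huN, (Submodule.smul_mem_iff _ hs).1 hvN])
      have hbM : t • b ∈ L ⊓ M := ⟨hLN ▸ hbN, htb⟩
      rw [hd, Submodule.mem_bot, smul_eq_zero] at hbM
      exact hba (by rw [hbM.resolve_left ht]; exact zero_mem _)
  · rintro ⟨hne, hmeet, hperp⟩
    refine ⟨hne, (comm_iff G hL hM).2 (Or.inl hmeet), ?_⟩
    obtain ⟨w, ⟨hwL, hwM⟩, hw0⟩ := Submodule.exists_mem_ne_zero_of_ne_bot hmeet
    obtain ⟨v, hv, hvw, hsp⟩ := hL.basis hwL hw0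
    obtain ⟨b, hb, hbw, hsp'⟩ := hM.basis hwM hw0
    refine ⟨_, ps_mem_R G hwL hv, _, ps_mem_R G hwM hb, ps_ne_one G (hL.2 w hwL) hw0 (hL.polar hwL hv) hvw,
      ps_ne_one G (hM.2 w hwM) hw0 (hM.polar hwM hb) hbw, Submodule.span F {w, v + b}, ?_, ?_⟩
    · refine isLine_span (hL.2 w hwL) (by rw [q_add, hL.2 v hv, hM.2 b hb, hperp v hv b hb]; simp)
        (by rw [QuadraticMap.polar_add_right, hL.polar hwL hv, hM.polar hwM hb, add_zero]) hw0 fun hm => hne ?_
      by_contra hne'
      refine hbw (meet_span hL hM hne' hw0 hwL hwM ?_ hb)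
      have hm' : v + b ∈ L := (Submodule.span_le.2 (by simpa using hwL)) hm
      exact (L.add_mem_iff_right hv).1 hm'
    · rw [ps_add G (hL.2 w hwL) (hL.polar hwL hv) (hM.polar hwM hb)]
      exact ps_mem_R G (Submodule.subset_span (by simp)) (Submodule.subset_span (by simp))

end Cfsg.Lib.OrthAut
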