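import Cfsg.Agent.Known.OrthAut.Points
import Cfsg.Agent.Known.OrthSim.Semi

/-!
Every automorphism of `PΩ(Q)` is induced by a semisimilarity, when the forms on the root groups determine meeting lines.
-/

set_option autoImplicit false
set_option linter.unusedSectionVars false
set_option linter.style.haveILetI false

namespace Cfsg.Lib.OrthAut

open Matrix Cfsg.Lib.Classical Cfsg.Lib.Classical.Refl
open Cfsg.Lib.OrthSim (semiPO induced_semi_iff glS)

universe u

variable {F : Type u} [Field F] [Fintype F] [DecidableEq F] {ι : Type} [Fintype ι] [DecidableEq ι]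
  {Q : QuadraticForm F (ι → F)}

set_option quotPrecheck false
local notation "B'" => QuadraticMap.polar (DFunLike.coe Q)
local notation "Iso" => Cfsg.isometryGroup F (DFunLike.coe Q)
local notation "Om" => Cfsg.Omega F (DFunLike.coe Q)
local notation "Pm" => Cfsg.POmega F (DFunLike.coe Q)
local notation "Sub'" => Submodule F (ι → F)

variable (G : Good Q)

/-! ### Semisimilarities -/

/-- The semilinear map of a pair. -/
def semiMap (g : GL ι F) (σ : F ≃+* F) (x : ι → F) : ι → F := (g : Matrix ι ι F) *ᵥ fun i => σ (x i)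

theorem semiMap_add (g : GL ι F) (σ : F ≃+* F) (x y : ι → F) :
    semiMap g σ (x + y) = semiMap g σ x + semiMap g σ y := by
  rw [semiMap, semiMap, semiMap, ← mulVec_add]
  exact congrArg _ (funext fun i => map_add σ _ _)

theorem semiMap_smul (g : GL ι F) (σ : F ≃+* F) (k : F) (x : ι → F) :
    semiMap g σ (k • x) = σ k • semiMap g σ x := by
  rw [semiMap, semiMap, ← mulVec_smul]
  exact congrArg _ (funext fun i => by simp)

theorem semiMap_surj (g : GL ι F) (σ : F ≃+* F) (x : ι → F) :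
    semiMap g σ (fun i => σ.symm ((((g⁻¹ : GL ι F) : Matrix ι ι F) *ᵥ x) i)) = x := by
  rw [semiMap, show (fun i => σ (σ.symm ((((g⁻¹ : GL ι F) : Matrix ι ι F) *ᵥ x) i))) =
    ((g⁻¹ : GL ι F) : Matrix ι ι F) *ᵥ x from funext fun i => σ.apply_symm_apply _, mulVec_mulVec, ← Units.val_mul,
    mul_inv_cancel, Units.val_one, one_mulVec]

theorem semiMap_injective (g : GL ι F) (σ : F ≃+* F) : Function.Injective (semiMap g σ) :=
  Finite.injective_iff_surjective.2 fun x => ⟨_, semiMap_surj g σ x⟩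

theorem semiMap_q {g : GL ι F} {σ : F ≃+* F} {c : Fˣ}
    (hc : ∀ v : ι → F, Q ((g : Matrix ι ι F) *ᵥ (fun i => σ (v i))) = (c : F) * σ (Q v)) (x : ι → F) :
    Q (semiMap g σ x) = (c : F) * σ (Q x) := hc x

theorem semiMap_polar {g : GL ι F} {σ : F ≃+* F} {c : Fˣ}
    (hc : ∀ v : ι → F, Q ((g : Matrix ι ι F) *ᵥ (fun i => σ (v i))) = (c : F) * σ (Q v)) (x y : ι → F) :
    B' (semiMap g σ x) (semiMap g σ y) = (c : F) * σ (B' x y) := by
  simp only [QuadraticMap.polar, ← semiMap_add, semiMap_q hc, map_sub]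
  ring

theorem semiPO_ps {g : GL ι F} {σ : F ≃+* F} (hp : Cfsg.IsSemisimilarityPair (⇑Q) g σ) {c : Fˣ}
    (hc : ∀ v : ι → F, Q ((g : Matrix ι ι F) *ᵥ (fun i => σ (v i))) = (c : F) * σ (Q v)) {a z : ι → F}
    (ha : Q a = 0) (hz : B' a z = 0) :
    semiPO g σ hp (ps G a z) = ps G (semiMap g σ a) ((c⁻¹ : Fˣ) • semiMap g σ z) := by
  refine (induced_semi_iff g σ hp _).2 rfl _ ⟨_, sg_mem G _ _⟩ ?_
  refine Matrix.toLin'.injective (LinearMap.ext fun x => ?_)
  rw [Matrix.toLin'_apply, Matrix.toLin'_apply, ← mulVec_mulVec, ← mulVec_mulVec]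
  change mat Q (sg (semiMap g σ a) ((c⁻¹ : Fˣ) • semiMap g σ z)) *ᵥ x =
    (g : Matrix ι ι F) *ᵥ ((mat Q (sg a z)).map σ *ᵥ (((g⁻¹ : GL ι F) : Matrix ι ι F) *ᵥ x))
  set y : ι → F := fun i => σ.symm ((((g⁻¹ : GL ι F) : Matrix ι ι F) *ᵥ x) i) with hy
  have hσy : ((g⁻¹ : GL ι F) : Matrix ι ι F) *ᵥ x = fun i => σ (y i) :=
    funext fun i => (σ.apply_symm_apply _).symm
  have hmap : (mat Q (sg a z)).map σ *ᵥ (fun i => σ (y i)) = fun i => σ ((mat Q (sg a z) *ᵥ y) i) :=
    funext fun i => (RingHom.map_mulVec σ.toRingHom _ y i).symm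
  rw [hσy, hmap]
  show _ = semiMap g σ (mat Q (sg a z) *ᵥ y)
  rw [sg_mulVec ha hz, semiMap_add, semiMap_add, semiMap_smul, semiMap_smul]
  conv_lhs => rw [← semiMap_surj g σ x, ← hy]
  rw [Units.smul_def, sg_mulVec (by rw [semiMap_q hc, ha, map_zero, mul_zero])
    (by rw [QuadraticMap.polar_smul_right, semiMap_polar hc, hz, map_zero, mul_zero, smul_zero])]
  rw [QuadraticMap.polar_smul_left, semiMap_polar hc, semiMap_polar hc, q_smul, semiMap_q hc]
  simp only [smul_eq_mul, Units.val_inv_eq_inv_val, map_sub, map_neg, map_mul, smul_smul]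
  congr 3
  all_goals (have hc0 : (c : F) ≠ 0 := c.ne_zero; field_simp)

theorem semi_pointMap {g : GL ι F} {σ : F ≃+* F} (hp : Cfsg.IsSemisimilarityPair (⇑Q) g σ) {c : Fˣ}
    (hc : ∀ v : ι → F, Q ((g : Matrix ι ι F) *ᵥ (fun i => σ (v i))) = (c : F) * σ (Q v)) :
    IsPointMap G (semiPO g σ hp) (semiMap g σ) := by
  intro w hw hw0
  refine ⟨by rw [semiMap_q hc, hw, map_zero, mul_zero], fun h => hw0 (semiMap_injective g σ ?_), fun N M h => ?_⟩
  · rw [h, semiMap]; simp [← Pi.zero_def]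
  obtain ⟨a, ha, ha0⟩ := h.1.ne_zero
  have himg : ∀ {a : ι → F}, a ∈ N → a ≠ 0 → ∃ z ∈ N, N = Submodule.span F {a, z} ∧
      M = Submodule.span F {semiMap g σ a, semiMap g σ z} := by
    intro a ha ha0
    obtain ⟨z, hz, hza, hsp⟩ := h.1.basis ha ha0
    have h0 : semiMap g σ a ≠ 0 := fun e => ha0 (semiMap_injective g σ (by rw [e, semiMap]; simp [← Pi.zero_def]))
    have hza' : semiMap g σ z ∉ Submodule.span F {semiMap g σ a} := fun e => by
      obtain ⟨k, hk⟩ := Submodule.mem_span_singleton.1 e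
      refine hza (Submodule.mem_span_singleton.2 ⟨σ.symm k, semiMap_injective g σ ?_⟩)
      rw [semiMap_smul, σ.apply_symm_apply, hk]
    have hline := isLine_span (Q := Q) (by rw [semiMap_q hc, h.1.2 a ha, map_zero, mul_zero])
      (by rw [semiMap_q hc, h.1.2 z hz, map_zero, mul_zero])
      (by rw [semiMap_polar hc, h.1.polar ha hz, map_zero, mul_zero]) h0 hza'
    refine ⟨z, hz, hsp, line_eq_of_mem G h.2.1 hline (x := semiPO g σ hp (ps G a z)) (h.mem (ps_mem_R G ha hz)) ?_ ?_⟩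
    · rw [semiPO_ps G hp hc (h.1.2 a ha) (h.1.polar ha hz), Units.smul_def]
      exact ps_mem_R G (Submodule.subset_span (by simp)) (Submodule.smul_mem _ _ (Submodule.subset_span (by simp)))
    · exact fun e => ps_ne_one G (h.1.2 a ha) ha0 (h.1.polar ha hz) hza
        ((semiPO g σ hp).injective (e.trans (map_one _).symm))
  obtain ⟨z, hz, hsp, hM⟩ := himg ha ha0
  constructor
  · intro hwN
    obtain ⟨z', -, -, hM'⟩ := himg hwN hw0
    rw [hM']; exact Submodule.subset_span (by simp)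
  · intro hwM
    rw [hM] at hwM
    obtain ⟨s, t, hst⟩ := Submodule.mem_span_pair.1 hwM
    have : w = σ.symm s • a + σ.symm t • z := semiMap_injective g σ (by
      rw [semiMap_add, semiMap_smul, semiMap_smul, σ.apply_symm_apply, σ.apply_symm_apply, hst])
    rw [this]
    exact add_mem (N.smul_mem _ ha) (N.smul_mem _ hz)

/-! ### Point maps -/

variable {G}

theorem IsPointMap.comp {α β : MulAut Pm} {f g h : (ι → F) → ι → F} (hf : IsPointMap G α f)
    (hg : IsPointMap G β g) (hh : ∀ w : ι → F, Q w = 0 → w ≠ 0 → Q (h w) = 0 ∧ h w ≠ 0 ∧ g (h w) = f w) :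
    IsPointMap G (β⁻¹ * α) h := by
  intro w hw hw0
  obtain ⟨h1, h2, h3⟩ := hh w hw hw0
  refine ⟨h1, h2, fun N K hNK => ?_⟩
  obtain ⟨M, hKM⟩ := exists_maps G β hNK.2.1
  have hNM : Maps G α N M := by
    refine ⟨hNK.1, hKM.2.1, ?_⟩
    rw [← hKM.2.2, ← hNK.2.2, Subgroup.map_map]
    congr 1
    exact MonoidHom.ext fun x => (β.apply_symm_apply _).symm
  rw [(hf w hw hw0).2.2 N M hNM, ← h3, ← (hg (h w) h1 h2).2.2 K M hKM]

theorem IsPointMap.mem_of_lines {α : MulAut Pm} {f : (ι → F) → ι → F} (hf : IsPointMap G α f) {w y : ι → F}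
    (hw : Q w = 0) (hw0 : w ≠ 0) (hy : ∀ N M : Sub', Maps G α N M → w ∈ N → y ∈ M) :
    y ∈ Submodule.span F {f w} := by
  obtain ⟨L, M, hL, hM, hwL, hwM, hne, -⟩ := exists_star G hw hw0
  obtain ⟨L', hL'⟩ := exists_maps G α hL
  obtain ⟨M', hM'⟩ := exists_maps G α hM
  obtain ⟨-, hf0, hfi⟩ := hf w hw hw0
  exact meet_span hL'.2.1 hM'.2.1 (fun e => hne (hL'.inj (e ▸ hM'))) hf0 ((hfi L L' hL').1 hwL)
    ((hfi M M' hM').1 hwM) (hy L L' hL' hwL) (hy M M' hM' hwM)

theorem IsPointMap.smul_mem {α : MulAut Pm} {f : (ι → F) → ι → F} (hf : IsPointMap G α f) {w x : ι → F}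
    (hw : Q w = 0) (hw0 : w ≠ 0) (hx : x ∈ Submodule.span F {w}) (hx0 : x ≠ 0) :
    f x ∈ Submodule.span F {f w} := by
  obtain ⟨k, rfl⟩ := Submodule.mem_span_singleton.1 hx
  refine hf.mem_of_lines hw hw0 fun N M h hwN => ?_
  exact ((hf _ (by rw [q_smul, hw, mul_zero]) hx0).2.2 N M h).1 (N.smul_mem k hwN)

theorem IsPointMap.inj {α : MulAut Pm} {f : (ι → F) → ι → F} (hf : IsPointMap G α f) {w x : ι → F}
    (hw : Q w = 0) (hw0 : w ≠ 0) (hx : Q x = 0) (hx0 : x ≠ 0) (h : f x ∈ Submodule.span F {f w}) :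
    x ∈ Submodule.span F {w} := by
  obtain ⟨L, M, hL, hM, hwL, hwM, hne, -⟩ := exists_star G hw hw0
  obtain ⟨L', hL'⟩ := exists_maps G α hL
  obtain ⟨M', hM'⟩ := exists_maps G α hM
  exact meet_span hL hM hne hw0 hwL hwM
    (((hf x hx hx0).2.2 L L' hL').2
      ((Submodule.span_singleton_le_iff_mem _ _).2 (((hf w hw hw0).2.2 L L' hL').1 hwL) h))
    (((hf x hx hx0).2.2 M M' hM').2
      ((Submodule.span_singleton_le_iff_mem _ _).2 (((hf w hw hw0).2.2 M M' hM').1 hwM) h))

theorem IsPointMap.orth {α : MulAut Pm} {f : (ι → F) → ι → F} (hf : IsPointMap G α f) {x y : ι → F}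
    (hx : Q x = 0) (hx0 : x ≠ 0) (hy : Q y = 0) (hy0 : y ≠ 0) : B' (f x) (f y) = 0 ↔ B' x y = 0 := by
  obtain ⟨hfx, hfx0, hfix⟩ := hf x hx hx0
  obtain ⟨hfy, hfy0, hfiy⟩ := hf y hy hy0
  constructor
  · intro h
    by_cases hd : f y ∈ Submodule.span F {f x}
    · obtain ⟨k, rfl⟩ := Submodule.mem_span_singleton.1 (hf.inj hx hx0 hy hy0 hd)
      rw [QuadraticMap.polar_smul_right, self_zero hx, smul_zero]
    · obtain ⟨N, hN⟩ := exists_maps' G α (isLine_span hfx hfy h hfx0 hd)
      exact hN.1.polar ((hfix N _ hN).2 (Submodule.subset_span (by simp)))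
        ((hfiy N _ hN).2 (Submodule.subset_span (by simp)))
  · intro h
    by_cases hd : y ∈ Submodule.span F {x}
    · obtain ⟨k, hk⟩ := Submodule.mem_span_singleton.1 (hf.smul_mem hx hx0 hd hy0)
      rw [← hk, QuadraticMap.polar_smul_right, self_zero hfx, smul_zero]
    · obtain ⟨M, hM⟩ := exists_maps G α (isLine_span hx hy h hx0 hd)
      exact hM.2.1.polar ((hfix _ M hM).1 (Submodule.subset_span (by simp)))
        ((hfiy _ M hM).1 (Submodule.subset_span (by simp)))

theorem IsPointMap.equivariant {α : MulAut Pm} {f : (ι → F) → ι → F} (hf : IsPointMap G α f) {w : ι → F}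
    (hw : Q w = 0) (hw0 : w ≠ 0) {g h : Om} (hgh : α (QuotientGroup.mk g) = QuotientGroup.mk h) :
    f (mat Q g.1 *ᵥ w) ∈ Submodule.span F {mat Q h.1 *ᵥ f w} := by
  obtain ⟨L, M, hL, hM, hwL, hwM, hne, -⟩ := exists_star G hw hw0
  obtain ⟨L', hL'⟩ := exists_maps G α hL
  obtain ⟨M', hM'⟩ := exists_maps G α hM
  have key : ∀ {A A' : Sub'}, Maps G α A A' →
      Maps G α (A.map (Matrix.toLin' (mat Q g.1))) (A'.map (Matrix.toLin' (mat Q h.1))) := fun hA => by
    refine ⟨map_isLine g.1 hA.1, map_isLine h.1 hA.2.1, ?_⟩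
    rw [← R_map_conj G g hA.1, ← R_map_conj G h hA.2.1, ← hA.2.2, Subgroup.map_map, Subgroup.map_map]
    congr 1
    refine MonoidHom.ext fun z => ?_
    show α (QuotientGroup.mk g * z * (QuotientGroup.mk g)⁻¹) = QuotientGroup.mk h * α z * (QuotientGroup.mk h)⁻¹
    rw [map_mul, map_mul, map_inv, hgh]
  have hgw : Q (mat Q g.1 *ᵥ w) = 0 := by rw [(mem_iff Q).mp g.1.2, hw]
  obtain ⟨-, -, hfgi⟩ := hf _ hgw (mat_ne_zero Q g.1 hw0)
  obtain ⟨-, hf0, hfi⟩ := hf w hw hw0
  refine meet_span (key hL').2.1 (key hM').2.1 ?_ (mat_ne_zero Q h.1 hf0)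
    ⟨_, (hfi L L' hL').1 hwL, Matrix.toLin'_apply _ _⟩ ⟨_, (hfi M M' hM').1 hwM, Matrix.toLin'_apply _ _⟩
    ((hfgi _ _ (key hL')).1 ⟨w, hwL, Matrix.toLin'_apply _ _⟩)
    ((hfgi _ _ (key hM')).1 ⟨w, hwM, Matrix.toLin'_apply _ _⟩)
  intro e
  refine hne (hL'.inj ((Submodule.map_injective_of_injective (fun a b e => ?_) e : L' = M') ▸ hM'))
  rw [Matrix.toLin'_apply, Matrix.toLin'_apply] at e
  rw [← mulVec_inv_cancel Q h.1 a, ← mulVec_inv_cancel Q h.1 b, e]

variable (G)

/-! ### The normalised case -/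

theorem semi_mem_gamma {g : GL ι F} {σ : F ≃+* F} (hp : Cfsg.IsSemisimilarityPair (⇑Q) g σ) :
    semiPO g σ hp ∈ Cfsg.gammaPOmega F (⇑Q) :=
  Subgroup.subset_closure ⟨g, σ, hp, (induced_semi_iff g σ hp _).2 rfl⟩

theorem sg_moves {u v x : ι → F} (hu : Q u = 0) (hv : Q v = 0) (huv : B' u v = 1) (hx : Q x = 0)
    (hux : B' u x = 1) : B' u (x - v) = 0 ∧ mat Q (sg u (x - v)) *ᵥ v = x := by
  have h0 : B' u (x - v) = 0 := by rw [QuadraticMap.polar_sub_right, hux, huv, sub_self]
  refine ⟨h0, ?_⟩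
  rw [sg_mulVec hu h0, huv, one_smul, mul_one]
  have hq : -B' (x - v) v - Q (x - v) = 0 := by
    rw [sub_eq_add_neg x v, q_add, QuadraticMap.map_neg, QuadraticMap.polar_neg_right, QuadraticMap.polar_add_left,
      QuadraticMap.polar_neg_left, self_zero hv, hx, hv, comm' x v]
    ring
  rw [hq, zero_smul, add_zero, add_sub_cancel]

set_option maxHeartbeats 1600000 in
theorem normal_mem_gamma (hH : Narrow Q) {α : MulAut Pm} {f : (ι → F) → ι → F} (hf : IsPointMap G α f)
    {u v : ι → F} (hu : Q u = 0) (hv : Q v = 0) (huv : B' u v = 1) (hfu : f u ∈ Submodule.span F {u})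
    (hfv : f v ∈ Submodule.span F {v}) : α ∈ Cfsg.gammaPOmega F (⇑Q) := by
  classical
  have hb := G.big
  have hu0 : u ≠ 0 := fun h => by rw [h, QuadraticMap.polar_zero_left] at huv; exact zero_ne_one huv
  have hv0 : v ≠ 0 := fun h => by rw [h, QuadraticMap.polar_zero_right] at huv; exact zero_ne_one huv
  set S0 : Sub' := Submodule.span F {u, v}
  set W : Sub' := HypQuad.perp Q S0
  have hWi : ∀ {w : ι → F}, w ∈ W ↔ B' u w = 0 ∧ B' v w = 0 := fun {w} =>
    ⟨fun h => ⟨(HypQuad.mem_perp Q).1 h u (Submodule.subset_span (by simp)),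
      (HypQuad.mem_perp Q).1 h v (Submodule.subset_span (by simp))⟩,
    fun h => (HypQuad.mem_perp Q).2 fun y hy => by
      obtain ⟨s, t, rfl⟩ := Submodule.mem_span_pair.1 hy
      simp [QuadraticMap.polar_add_left, QuadraticMap.polar_smul_left, h.1, h.2]⟩
  have hWu : ∀ {w : ι → F}, w ∈ W → w ∈ Submodule.span F {u} → w = 0 := fun hw h => by
    obtain ⟨k, rfl⟩ := Submodule.mem_span_singleton.1 h
    have h2 := (hWi.1 hw).2
    rw [QuadraticMap.polar_smul_right, comm', huv, smul_eq_mul, mul_one] at h2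
    rw [h2, zero_smul]
  have psW : ∀ {a b : ι → F}, a ∈ W → b ∈ W → ps G u a = ps G u b → a = b := fun {a b} ha hb' h =>
    sub_eq_zero.1 (hWu (sub_mem ha hb') (ps_inj G hu hu0 (hWi.1 ha).1 (hWi.1 hb').1 h))
  -- images of singular parameters
  have hsing : ∀ {w : ι → F}, w ∈ W → Q w = 0 → w ≠ 0 →
      ∃ b ∈ W, Q b = 0 ∧ ∀ c : F, ∃ k : F, α (ps G u (c • w)) = ps G u (k • b) := by
    intro w hw hQw hw0
    have huw := (hWi.1 hw).1
    obtain ⟨M, hM⟩ := exists_maps G α (isLine_span hu hQw huw hu0 fun h => hw0 (hWu hw h))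
    have huM : u ∈ M := by
      obtain ⟨k, hk⟩ := Submodule.mem_span_singleton.1 hfu
      obtain ⟨-, hf0, hfi⟩ := hf u hu hu0
      exact (M.smul_mem_iff fun h : k = 0 => hf0 (by rw [← hk, h, zero_smul])).1
        (hk.symm ▸ (hfi _ M hM).1 (Submodule.subset_span (by simp)))
    obtain ⟨b, hb', -, hspM⟩ := hM.2.1.basis huM hu0
    have hub := hM.2.1.polar huM hb'
    refine ⟨b + (-B' v b) • u, hWi.2 ⟨?_, ?_⟩, ?_, fun c => ?_⟩
    · rw [QuadraticMap.polar_add_right, QuadraticMap.polar_smul_right, hub, self_zero hu, smul_zero, add_zero]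
    · rw [QuadraticMap.polar_add_right, QuadraticMap.polar_smul_right, comm' v u, huv, smul_eq_mul, mul_one,
        add_neg_cancel]
    · exact hM.2.1.2 _ (add_mem hb' (M.smul_mem _ huM))
    · obtain ⟨k, hk⟩ := (mem_R G hM.2.1 huM hb' hspM).1
        (hM.mem (ps_mem_R G (L := Submodule.span F {u, w}) (a := u) (b := c • w) (Submodule.subset_span (by simp))
          (Submodule.smul_mem _ c (Submodule.subset_span (by simp)))))
      refine ⟨k, hk.trans (ps_congr G ?_)⟩
      rw [smul_add, smul_smul, sg_shift _ hu (by rw [QuadraticMap.polar_smul_right, hub, smul_zero])]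
  obtain ⟨u0, hu0W, v0, hv0W, hQu0, hQv0, huv0⟩ := exists_pair_perp Q G.nd S0
    (by have : Module.finrank F S0 ≤ 2 := finrank_span_two u v; omega)
  have hall : ∀ w ∈ W, ∀ c : F, ∃ a ∈ W, α (ps G u (c • w)) = ps G u a := by
    intro w hw
    have hmem : w ∈ Submodule.span F {s : ι → F | s ∈ W ∧ Q s = 0} :=
      mem_span_singular hu0W hv0W hQu0 hQv0 huv0 hw
    suffices h : w ∈ W ∧ ∀ c : F, ∃ a ∈ W, α (ps G u (c • w)) = ps G u a from h.2
    clear hw
    induction hmem using Submodule.span_induction with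
    | mem s hs =>
      refine ⟨hs.1, fun c => ?_⟩
      by_cases hs0 : s = 0
      · exact ⟨0, W.zero_mem, by rw [hs0, smul_zero, ps_zero G hu, map_one]⟩
      obtain ⟨b, hbW, -, hb'⟩ := hsing hs.1 hs.2 hs0
      obtain ⟨k, hk⟩ := hb' c
      exact ⟨k • b, W.smul_mem k hbW, hk⟩
    | zero => exact ⟨W.zero_mem, fun c => ⟨0, W.zero_mem, by rw [smul_zero, ps_zero G hu, map_one]⟩⟩
    | add x y _ _ ihx ihy =>
      refine ⟨add_mem ihx.1 ihy.1, fun c => ?_⟩
      obtain ⟨a, ha, ea⟩ := ihx.2 c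
      obtain ⟨b, hb', eb⟩ := ihy.2 c
      refine ⟨a + b, add_mem ha hb', ?_⟩
      rw [smul_add, ← ps_add G hu (hWi.1 (W.smul_mem c ihx.1)).1 (hWi.1 (W.smul_mem c ihy.1)).1, map_mul, ea, eb,
        ps_add G hu (hWi.1 ha).1 (hWi.1 hb').1]
    | smul k x _ ih => exact ⟨W.smul_mem k ih.1, fun c => by rw [smul_smul]; exact ih.2 _⟩
  have hex : ∀ w : ι → F, ∃ a : ι → F, w ∈ W → a ∈ W ∧ α (ps G u w) = ps G u a := fun w => by
    by_cases hw : w ∈ W
    · obtain ⟨a, ha, e⟩ := hall w hw 1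
      exact ⟨a, fun _ => ⟨ha, by simpa using e⟩⟩
    · exact ⟨0, fun h => absurd h hw⟩
  choose A hA using hex
  have hAadd : ∀ {a b : ι → F}, a ∈ W → b ∈ W → A (a + b) = A a + A b := fun {a b} ha hb' => by
    refine psW (hA _ (add_mem ha hb')).1 (add_mem (hA a ha).1 (hA b hb').1) ?_
    rw [← (hA _ (add_mem ha hb')).2, ← ps_add G hu (hWi.1 ha).1 (hWi.1 hb').1, map_mul, (hA a ha).2, (hA b hb').2,
      ps_add G hu (hWi.1 (hA a ha).1).1 (hWi.1 (hA b hb').1).1]
  have hAinj : ∀ {a b : ι → F}, a ∈ W → b ∈ W → A a = A b → a = b := fun {a b} ha hb' h =>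
    psW ha hb' (α.injective (by rw [(hA a ha).2, (hA b hb').2, h]))
  have hA0 : A 0 = 0 := by
    have := hAadd W.zero_mem W.zero_mem
    rwa [add_zero, left_eq_add] at this
  have hAne : ∀ {a : ι → F}, a ∈ W → a ≠ 0 → A a ≠ 0 := fun ha ha0 h =>
    ha0 (hAinj ha W.zero_mem (by rw [h, hA0]))
  have hAs : ∀ {w : ι → F}, w ∈ W → Q w = 0 → w ≠ 0 →
      Q (A w) = 0 ∧ ∀ c : F, ∃ k : F, A (c • w) = k • A w := by
    intro w hw hQw hw0
    obtain ⟨b, hbW, hQb, hb'⟩ := hsing hw hQw hw0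
    have e : ∀ c, ∃ k : F, A (c • w) = k • b := fun c => by
      obtain ⟨k, hk⟩ := hb' c
      exact ⟨k, psW (hA _ (W.smul_mem c hw)).1 (W.smul_mem k hbW) ((hA _ (W.smul_mem c hw)).2.symm.trans hk)⟩
    obtain ⟨k1, hk1⟩ := e 1
    rw [one_smul] at hk1
    have hk0 : k1 ≠ 0 := fun h => hAne hw hw0 (by rw [hk1, h, zero_smul])
    refine ⟨by rw [hk1, q_smul, hQb, mul_zero], fun c => ?_⟩
    obtain ⟨k, hk⟩ := e c
    exact ⟨k * k1⁻¹, by rw [hk, hk1, smul_smul, inv_mul_cancel_right₀ hk0]⟩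
  have hsurj : ∀ {w : ι → F}, w ∈ W → Q w = 0 → w ≠ 0 → ∀ k : F, ∃ c : F, A (c • w) = k • A w := by
    intro w hw hQw hw0 k
    choose φ hφ using (hAs hw hQw hw0).2
    have hinj : Function.Injective φ := fun c d h => smul_left_injective F hw0
      (hAinj (W.smul_mem c hw) (W.smul_mem d hw) (by rw [hφ c, hφ d, h]))
    obtain ⟨c, hc⟩ := Finite.injective_iff_surjective.1 hinj k
    exact ⟨c, by rw [hφ c, hc]⟩
  have share : ∀ {w w' : ι → F}, w ∈ W → Q w = 0 → w ≠ 0 → w' ∈ W → Q w' = 0 → B' w w' = 0 →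
      w' ∉ Submodule.span F {w} → ∀ c a : F, A (c • w) = a • A w → A (c • w') = a • A w' := by
    intro w w' hw hQw hw0 hw' hQw' hww' hns c a hca
    have hw0' : w' ≠ 0 := fun h => hns (by rw [h]; exact zero_mem _)
    obtain ⟨b, hb'⟩ := (hAs hw' hQw' hw0').2 c
    have hs : Q (w + w') = 0 := by rw [q_add, hQw, hQw', hww']; simp
    have hs0 : w + w' ≠ 0 := fun h => hns (by
      rw [eq_neg_of_add_eq_zero_right h]; exact neg_mem (Submodule.mem_span_singleton_self w))
    obtain ⟨e, he⟩ := (hAs (add_mem hw hw') hs hs0).2 c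
    rw [smul_add, hAadd (W.smul_mem c hw) (W.smul_mem c hw'), hAadd hw hw', hca, hb', smul_add] at he
    suffices hab : a = b by rw [hb', hab]
    by_contra hab
    have hbe : b ≠ e := fun hbe => hab (by
      rw [hbe, add_left_inj] at he
      exact (smul_left_injective F (hAne hw hw0) he).trans hbe.symm)
    obtain ⟨d, hd⟩ := hsurj hw hQw hw0 ((e - a) / (b - e))
    refine hns (Submodule.mem_span_singleton.2 ⟨d, hAinj (W.smul_mem d hw) hw' ?_⟩)
    rw [hd, div_eq_inv_mul, mul_smul, show (e - a) • A w = (b - e) • A w' by linear_combination (norm := module) -he,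
      smul_smul, inv_mul_cancel₀ (sub_ne_zero.2 hbe), one_smul]
  have hw00 : u0 ≠ 0 := fun h => by
    rw [h, QuadraticMap.polar_zero_left] at huv0; exact zero_ne_one huv0
  choose σ0 hσ0 using (hAs hu0W hQu0 hw00).2
  have hWdim : Fintype.card ι ≤ Module.finrank F W + 2 := by
    have h1 := HypQuad.finrank_perp Q G.nd S0
    have h2 : Module.finrank F S0 ≤ 2 := finrank_span_two u v
    rw [finrank_V] at h1
    change Module.finrank F W = _ at h1
    omega
  have hσ : ∀ {w : ι → F}, w ∈ W → Q w = 0 → ∀ c, A (c • w) = σ0 c • A w := by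
    intro w hw hQw c
    by_cases hw0 : w = 0
    · rw [hw0, smul_zero, hA0, smul_zero]
    by_cases hdep : w ∈ Submodule.span F {u0}
    · obtain ⟨s, hs, hQs, hsY⟩ := exists_singular_avoid (Q := Q)
        (HypQuad.perp Q (S0 ⊔ Submodule.span F {u0})) (Submodule.span F {u0}) (by
          have h1 := HypQuad.finrank_perp Q G.nd (S0 ⊔ Submodule.span F {u0})
          have h2 := Submodule.finrank_sup_add_finrank_inf_eq S0 (Submodule.span F {u0})
          have h3 : Module.finrank F S0 ≤ 2 := finrank_span_two u v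
          rw [finrank_span_singleton hw00] at h2 ⊢
          rw [finrank_V] at h1
          omega)
      have hsW : s ∈ W := (HypQuad.mem_perp Q).2 fun y hy => (HypQuad.mem_perp Q).1 hs y (Submodule.mem_sup_left hy)
      have hws : B' u0 s = 0 :=
        (HypQuad.mem_perp Q).1 hs u0 (Submodule.mem_sup_right (Submodule.mem_span_singleton_self _))
      have hs0 : s ≠ 0 := fun h => hsY (by rw [h]; exact zero_mem _)
      refine share hsW hQs hs0 hw hQw ?_ ?_ c _ (share hu0W hQu0 hw00 hsW hQs hws hsY c _ (hσ0 c))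
      · obtain ⟨k, rfl⟩ := Submodule.mem_span_singleton.1 hdep
        rw [QuadraticMap.polar_smul_right, comm', hws, smul_zero]
      · intro h
        obtain ⟨k, rfl⟩ := Submodule.mem_span_singleton.1 hdep
        obtain ⟨l, hl⟩ := Submodule.mem_span_singleton.1 h
        refine hsY (Submodule.mem_span_singleton.2 ⟨l⁻¹ * k, ?_⟩)
        rw [mul_smul, ← hl, smul_smul, inv_mul_cancel₀ (fun h0 : l = 0 => hw0 (by rw [← hl, h0, zero_smul])), one_smul]
    · by_cases hp : B' u0 w = 0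
      · exact share hu0W hQu0 hw00 hw hQw hp hdep c _ (hσ0 c)
      · obtain ⟨s, hs, hs0, hQs⟩ := exists_singular Q (HypQuad.perp Q (S0 ⊔ Submodule.span F {u0, w})) (by
          have h1 := HypQuad.finrank_perp Q G.nd (S0 ⊔ Submodule.span F {u0, w})
          have h2 := Submodule.finrank_sup_add_finrank_inf_eq S0 (Submodule.span F {u0, w})
          have h3 : Module.finrank F S0 ≤ 2 := finrank_span_two u v
          have h4 := finrank_span_two u0 w
          rw [finrank_V] at h1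
          omega)
        have hsW : s ∈ W :=
          (HypQuad.mem_perp Q).2 fun y hy => (HypQuad.mem_perp Q).1 hs y (Submodule.mem_sup_left hy)
        have hws : B' u0 s = 0 :=
          (HypQuad.mem_perp Q).1 hs u0 (Submodule.mem_sup_right (Submodule.subset_span (by simp)))
        have hws' : B' s w = 0 := by
          rw [comm']; exact (HypQuad.mem_perp Q).1 hs w (Submodule.mem_sup_right (Submodule.subset_span (by simp)))
        refine share hsW hQs hs0 hw hQw hws' ?_ c _ (share hu0W hQu0 hw00 hsW hQs hws ?_ c _ (hσ0 c))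
        · intro h
          obtain ⟨l, rfl⟩ := Submodule.mem_span_singleton.1 h
          exact hp (by rw [QuadraticMap.polar_smul_right, hws, smul_zero])
        · intro h
          obtain ⟨l, rfl⟩ := Submodule.mem_span_singleton.1 h
          rw [QuadraticMap.polar_smul_left, smul_eq_mul, mul_eq_zero] at hws'
          exact hs0 (by rw [hws'.resolve_right hp, zero_smul])
  have hAu0 := hAne hu0W hw00
  have hσadd : ∀ c d, σ0 (c + d) = σ0 c + σ0 d := fun c d => smul_left_injective F hAu0 (by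
    show σ0 (c + d) • A u0 = (σ0 c + σ0 d) • A u0
    rw [← hσ0, add_smul, hAadd (W.smul_mem c hu0W) (W.smul_mem d hu0W), add_smul, hσ0, hσ0])
  have hσmul : ∀ c d, σ0 (c * d) = σ0 c * σ0 d := fun c d => smul_left_injective F hAu0 (by
    show σ0 (c * d) • A u0 = (σ0 c * σ0 d) • A u0
    rw [← hσ0, mul_smul, hσ (W.smul_mem d hu0W) (by rw [q_smul, hQu0, mul_zero]), hσ0, smul_smul])
  have hσbij : Function.Bijective σ0 := Finite.injective_iff_bijective.1 fun c d h =>
    smul_left_injective F hw00 (hAinj (W.smul_mem c hu0W) (W.smul_mem d hu0W) (by rw [hσ0, hσ0, h]))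
  let σ : F ≃+* F := { Equiv.ofBijective σ0 hσbij with map_mul' := hσmul, map_add' := hσadd }
  have hσe : ∀ c, σ c = σ0 c := fun c => rfl
  have hAlin : ∀ {x : ι → F}, x ∈ W → ∀ c, A (c • x) = σ c • A x := by
    intro x hx
    have hmem := mem_span_singular hu0W hv0W hQu0 hQv0 huv0 hx
    suffices h : x ∈ W ∧ ∀ c, A (c • x) = σ c • A x from h.2
    clear hx
    induction hmem using Submodule.span_induction with
    | mem s hs => exact ⟨hs.1, fun c => hσ hs.1 hs.2 c⟩
    | zero => exact ⟨W.zero_mem, fun c => by rw [smul_zero, hA0, smul_zero]⟩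
    | add a b _ _ iha ihb =>
      exact ⟨add_mem iha.1 ihb.1, fun c => by
        rw [smul_add, hAadd (W.smul_mem c iha.1) (W.smul_mem c ihb.1), iha.2, ihb.2, hAadd iha.1 ihb.1, smul_add]⟩
    | smul k a _ ih => exact ⟨W.smul_mem k ih.1, fun c => by rw [smul_smul, ih.2, ih.2, smul_smul, map_mul]⟩
  have hAQ0 : ∀ {w : ι → F}, w ∈ W → Q w = 0 → Q (A w) = 0 := fun {w} hw hQw => by
    by_cases hw0 : w = 0
    · rw [hw0, hA0, QuadraticMap.map_zero]
    · exact (hAs hw hQw hw0).1
  -- the multiplier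
  set X : Sub' := HypQuad.perp Q (S0 ⊔ Submodule.span F {u0, v0}) with hX
  have hXW : ∀ {y : ι → F}, y ∈ X → y ∈ W ∧ B' u0 y = 0 ∧ B' v0 y = 0 := fun {y} hy =>
    ⟨(HypQuad.mem_perp Q).2 fun z hz => (HypQuad.mem_perp Q).1 hy z (Submodule.mem_sup_left hz),
      (HypQuad.mem_perp Q).1 hy u0 (Submodule.mem_sup_right (Submodule.subset_span (by simp))),
      (HypQuad.mem_perp Q).1 hy v0 (Submodule.mem_sup_right (Submodule.subset_span (by simp)))⟩
  obtain ⟨p, hp, hp0, hQp⟩ := exists_singular Q X (by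
    have h1 := HypQuad.finrank_perp Q G.nd (S0 ⊔ Submodule.span F {u0, v0})
    have h2 := Submodule.finrank_sup_add_finrank_inf_eq S0 (Submodule.span F {u0, v0})
    have h3 : Module.finrank F S0 ≤ 2 := finrank_span_two u v
    have h4 := finrank_span_two u0 v0
    rw [finrank_V] at h1
    change Module.finrank F X = _ at h1
    omega)
  obtain ⟨q, hq, hQq, hpq⟩ := exists_partner hp hQp (by
    by_contra hc
    push Not at hc
    have : p ∈ S0 ⊔ Submodule.span F {u0, v0} := by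
      rw [← perp_perp Q G.nd (S0 ⊔ Submodule.span F {u0, v0}), HypQuad.mem_perp]
      exact fun y hy => by rw [comm']; exact hc y hy
    obtain ⟨s, hs, r, hr, rfl⟩ := Submodule.mem_sup.1 this
    obtain ⟨a, b, rfl⟩ := Submodule.mem_span_pair.1 hs
    obtain ⟨c, d, rfl⟩ := Submodule.mem_span_pair.1 hr
    obtain ⟨hW', h1, h2⟩ := hXW hp
    obtain ⟨h3, h4⟩ := hWi.1 hW'
    obtain ⟨e1, e2⟩ := hWi.1 hu0W
    obtain ⟨e3, e4⟩ := hWi.1 hv0W
    simp [QuadraticMap.polar_add_right, QuadraticMap.polar_smul_right, self_zero hu, self_zero hv, self_zero hQu0,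
      self_zero hQv0, huv, comm' v u, huv0, comm' v0 u0, e1, e2, e3, e4, comm' u0 u, comm' u0 v, comm' v0 u,
      comm' v0 v] at h1 h2 h3 h4
    exact hp0 (by simp [h1, h2, h3, h4]))
  have hzero : ∀ z ∈ W, Q z = 0 → (∀ y ∈ X, Q y = 0 → B' z y = 0) → ∀ y ∈ X, B' (A z) (A y) = 0 := by
    intro z hz hQz hzy y hy
    have hmem := mem_span_singular hp hq hQp hQq hpq hy
    suffices h : y ∈ W ∧ B' (A z) (A y) = 0 from h.2
    clear hy
    induction hmem using Submodule.span_induction with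
    | mem s hs =>
      refine ⟨(hXW hs.1).1, ?_⟩
      have h1 := hAQ0 (add_mem hz (hXW hs.1).1) (by rw [q_add, hQz, hs.2, hzy s hs.1 hs.2]; simp)
      rwa [hAadd hz (hXW hs.1).1, q_add, hAQ0 hz hQz, hAQ0 (hXW hs.1).1 hs.2, zero_add, zero_add] at h1
    | zero => exact ⟨W.zero_mem, by rw [hA0, QuadraticMap.polar_zero_right]⟩
    | add a b _ _ iha ihb =>
      exact ⟨add_mem iha.1 ihb.1, by rw [hAadd iha.1 ihb.1, QuadraticMap.polar_add_right, iha.2, ihb.2, add_zero]⟩
    | smul k a _ ih => exact ⟨W.smul_mem k ih.1, by rw [hAlin ih.1, QuadraticMap.polar_smul_right, ih.2, smul_zero]⟩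
  have hu0X := hzero u0 hu0W hQu0 fun y hy _ => (hXW hy).2.1
  have hv0X := hzero v0 hv0W hQv0 fun y hy _ => (hXW hy).2.2
  set μ := B' (A u0) (A v0) with hμ
  have hAQ : ∀ {x : ι → F}, x ∈ W → Q (A x) = μ * σ (Q x) := by
    intro x hx
    set a := B' v0 x
    set b := B' u0 x
    set y := x - a • u0 - b • v0 with hy
    have hyX : y ∈ X := by
      rw [hX, HypQuad.mem_perp]
      intro z hz
      obtain ⟨s, hs, r, hr, rfl⟩ := Submodule.mem_sup.1 hz
      obtain ⟨c, d, rfl⟩ := Submodule.mem_span_pair.1 hr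
      rw [QuadraticMap.polar_add_left, (HypQuad.mem_perp Q).1
        (sub_mem (sub_mem hx (W.smul_mem a hu0W)) (W.smul_mem b hv0W) : y ∈ W) s hs]
      simp [hy, a, b, QuadraticMap.polar_add_left, QuadraticMap.polar_smul_left, QuadraticMap.polar_sub_right,
        QuadraticMap.polar_smul_right, hQu0, hQv0, huv0, comm' v0 u0]
      ring
    obtain ⟨hyW, h1, h2⟩ := hXW hyX
    set k := -Q y
    have hz : Q (v0 + (y + k • u0)) = 0 := by
      rw [q_add, WittQuad.val_smul_add, hQv0, hQu0, comm' y u0, h1, QuadraticMap.polar_add_right,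
        QuadraticMap.polar_smul_right, h2, comm' v0 u0, huv0, smul_eq_mul]
      ring
    have hkW := W.smul_mem k hu0W
    have h3 := hAQ0 (add_mem hv0W (add_mem hyW hkW)) hz
    rw [hAadd hv0W (add_mem hyW hkW), hAadd hyW hkW, hAlin hu0W, q_add, WittQuad.val_smul_add, hAQ0 hv0W hQv0,
      hAQ0 hu0W hQu0, comm' (A y) (A u0), hu0X y hyX, QuadraticMap.polar_add_right, QuadraticMap.polar_smul_right,
      hv0X y hyX, comm' (A v0) (A u0), ← hμ, smul_eq_mul] at h3
    have hQy : Q (A y) = μ * σ (Q y) := by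
      rw [show σ k = -σ (Q y) from map_neg σ _] at h3
      linear_combination h3
    have e : x = (y + a • u0) + b • v0 := by rw [hy]; module
    rw [e, hAadd (add_mem hyW (W.smul_mem a hu0W)) (W.smul_mem b hv0W), hAadd hyW (W.smul_mem a hu0W), hAlin hu0W,
      hAlin hv0W, WittQuad.val_smul_add, WittQuad.val_smul_add, hQy, hAQ0 hu0W hQu0, hAQ0 hv0W hQv0,
      QuadraticMap.polar_add_left, QuadraticMap.polar_smul_left, comm' (A y) (A u0), hu0X y hyX, comm' (A y) (A v0),
      hv0X y hyX, ← hμ, WittQuad.val_smul_add, WittQuad.val_smul_add, hQu0, hQv0, QuadraticMap.polar_add_left,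
      QuadraticMap.polar_smul_left, comm' y u0, h1, comm' y v0, h2, huv0]
    simp only [map_add, map_mul, map_zero, smul_eq_mul, mul_zero, mul_one, add_zero, zero_add, map_one]
    ring
  have hμ0 : μ ≠ 0 := by
    intro h0
    have hres : Function.Surjective (fun a : W => (⟨A a.1, (hA a.1 a.2).1⟩ : W)) :=
      Finite.injective_iff_surjective.1 fun a b e => Subtype.ext (hAinj a.2 b.2 (congrArg Subtype.val e))
    obtain ⟨a, ha⟩ := hres ⟨u0 + v0, add_mem hu0W hv0W⟩
    have h1 := hAQ a.2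
    have ha' : A a.1 = u0 + v0 := congrArg Subtype.val ha
    rw [ha', h0, zero_mul, q_add, hQu0, hQv0, huv0, zero_add, zero_add] at h1
    exact one_ne_zero h1
  -- the semisimilarity
  let π : (ι → F) → ι → F := fun x => x - B' v x • u - B' u x • v
  have hπ : ∀ x, π x ∈ W := fun x => hWi.2 ⟨by
      simp [π, QuadraticMap.polar_sub_right, QuadraticMap.polar_smul_right, self_zero hu, huv], by
      simp [π, QuadraticMap.polar_sub_right, QuadraticMap.polar_smul_right, self_zero hv, comm' v u, huv]⟩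
  let Φ : (ι → F) → ι → F := fun x => (μ * σ (B' v x)) • u + σ (B' u x) • v + A (π x)
  have hπadd : ∀ x y, π (x + y) = π x + π y := fun x y => by
    simp only [π, QuadraticMap.polar_add_right]; module
  have hπsmul : ∀ (c : F) (x : ι → F), π (c • x) = c • π x := fun c x => by
    simp only [π, QuadraticMap.polar_smul_right, smul_eq_mul]; module
  have hΦadd : ∀ x y, Φ (x + y) = Φ x + Φ y := fun x y => by
    simp only [Φ, QuadraticMap.polar_add_right, map_add, hπadd, hAadd (hπ x) (hπ y)]; module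
  have hΦsmul : ∀ (c : F) (x : ι → F), Φ (c • x) = σ c • Φ x := fun c x => by
    simp only [Φ, QuadraticMap.polar_smul_right, smul_eq_mul, map_mul, hπsmul, hAlin (hπ x)]; module
  have hΦQ : ∀ x, Q (Φ x) = μ * σ (Q x) := fun x => by
    obtain ⟨e1, e2⟩ := hWi.1 (hπ x)
    obtain ⟨e3, e4⟩ := hWi.1 (hA _ (hπ x)).1
    have e : x = B' v x • u + B' u x • v + π x := by simp only [π]; abel
    conv_rhs => rw [e]
    simp only [Φ, q_add, q_smul, hu, hv, QuadraticMap.polar_add_left, QuadraticMap.polar_smul_left,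
      QuadraticMap.polar_smul_right, huv, e1, e2, e3, e4, hAQ (hπ x), smul_eq_mul, mul_zero, zero_add, add_zero,
      mul_one, map_add, map_mul]
    ring
  have hΦinj : ∀ x, Φ x = 0 → x = 0 := fun x hx => by
    obtain ⟨e3, e4⟩ := hWi.1 (hA _ (hπ x)).1
    have h1 := congrArg (B' v) hx
    have h2 := congrArg (B' u) hx
    simp only [Φ, QuadraticMap.polar_add_right, QuadraticMap.polar_smul_right, QuadraticMap.polar_zero_right,
      self_zero hu, self_zero hv, comm' v u, huv, e3, e4, smul_eq_mul, mul_zero, mul_one, add_zero, zero_add,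
      mul_eq_zero, hμ0, false_or, map_eq_zero] at h1 h2
    simp only [Φ, h1, h2, map_zero, mul_zero, zero_smul, zero_add] at hx
    have h4 : π x = 0 := by
      by_contra h
      exact hAne (hπ x) h hx
    simpa [π, h1, h2] using h4
  let ℓ : (ι → F) →ₗ[F] (ι → F) :=
    { toFun := fun y => Φ fun i => σ.symm (y i)
      map_add' := fun x y => by
        rw [← hΦadd]; exact congrArg Φ (funext fun i => map_add σ.symm _ _)
      map_smul' := fun c y => by
        have e : (fun i => σ.symm ((c • y) i)) = σ.symm c • fun i => σ.symm (y i) := funext fun i => by simp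
        rw [e, hΦsmul, σ.apply_symm_apply, RingHom.id_apply] }
  have hℓ : Function.Injective ℓ := (injective_iff_map_eq_zero ℓ).2 fun y hy => funext fun i => by
    have := congrFun (hΦinj _ hy) i
    simpa using this
  have hdet : (LinearMap.toMatrix' ℓ).det ≠ 0 := by
    have h := LinearEquiv.isUnit_det' (LinearEquiv.ofBijective ℓ (Finite.injective_iff_bijective.1 hℓ))
    rw [LinearMap.det_toMatrix']
    exact h.ne_zero
  let g : GL ι F := Matrix.GeneralLinearGroup.mkOfDetNeZero _ hdet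
  have hg : ∀ x, semiMap g σ x = Φ x := fun x => by
    show LinearMap.toMatrix' ℓ *ᵥ (fun i => σ (x i)) = Φ x
    rw [LinearMap.toMatrix'_mulVec]
    exact congrArg Φ (funext fun i => σ.symm_apply_apply _)
  have hc : ∀ x : ι → F, Q ((g : Matrix ι ι F) *ᵥ fun i => σ (x i)) = ((Units.mk0 μ hμ0 : Fˣ) : F) * σ (Q x) :=
    fun x => by
      show Q (semiMap g σ x) = _
      rw [hg, hΦQ, Units.val_mk0]
  have hp : Cfsg.IsSemisimilarityPair (⇑Q) g σ := ⟨_, hc⟩
  set β := semiPO g σ hp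
  suffices hγ : β⁻¹ * α = 1 by
    rw [show α = β from (inv_mul_eq_one.1 hγ).symm]
    exact semi_mem_gamma hp
  have hπu : π u = 0 := by simp [π, self_zero hu, comm' v u, huv]
  have hΦu : Φ u = μ • u := by simp [Φ, self_zero hu, comm' v u, huv, hπu, hA0]
  have hπv : π v = 0 := by simp [π, self_zero hv, huv]
  have hΦv : Φ v = v := by simp [Φ, self_zero hv, huv, hπv, hA0]
  have hfix : ∀ w, B' u w = 0 → (β⁻¹ * α) (ps G u w) = ps G u w := by
    intro w hw
    have hww : w + (-B' v w) • u ∈ W := hWi.2 ⟨by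
        simp [QuadraticMap.polar_add_right, QuadraticMap.polar_smul_right, hw, self_zero hu], by
        simp [QuadraticMap.polar_add_right, QuadraticMap.polar_smul_right, comm' v u, huv]⟩
    rw [← ps_congr G (sg_shift (-B' v w) hu hw)]
    set w' := w + (-B' v w) • u
    obtain ⟨huw', hvw'⟩ := hWi.1 hww
    have hπw : π w' = w' := by simp [π, huw', hvw']
    have hΦw : Φ w' = A w' := by simp [Φ, huw', hvw', hπw]
    rw [MulAut.mul_apply, (hA w' hww).2]
    refine β.injective ((β.apply_symm_apply _).trans ?_)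
    rw [semiPO_ps G hp hc hu huw', hg, hg, hΦu, hΦw, Units.smul_def]
    refine (ps_congr G ?_).symm
    rw [sg_smul μ hu (by rw [QuadraticMap.polar_smul_right, (hWi.1 (hA w' hww).1).1, smul_zero]), smul_smul,
      Units.val_inv_eq_inv_val, Units.val_mk0, mul_inv_cancel₀ hμ0, one_smul]
  let h : (ι → F) → ι → F := fun w => fun i => σ.symm ((((g⁻¹ : GL ι F) : Matrix ι ι F) *ᵥ f w) i)
  have hΦh : ∀ w, semiMap g σ (h w) = f w := fun w => semiMap_surj g σ (f w)
  have hh : IsPointMap G (β⁻¹ * α) h := by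
    refine hf.comp (semi_pointMap G hp hc) fun w hw hw0 => ?_
    obtain ⟨h1, h2, -⟩ := hf w hw hw0
    refine ⟨?_, fun e => h2 ?_, hΦh w⟩
    · have := semiMap_q hc (h w)
      rw [hΦh, h1, zero_eq_mul] at this
      simpa [hμ0] using this
    · rw [← hΦh w, e, semiMap]; simp [← Pi.zero_def]
  have hu' : h u ∈ Submodule.span F {u} := by
    obtain ⟨k, hk⟩ := Submodule.mem_span_singleton.1 hfu
    refine Submodule.mem_span_singleton.2 ⟨σ.symm (k / μ), semiMap_injective g σ ?_⟩
    rw [semiMap_smul, hg, hΦu, hΦh, σ.apply_symm_apply, smul_smul, div_mul_cancel₀ _ hμ0, hk]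
  have hv' : h v ∈ Submodule.span F {v} := by
    obtain ⟨k, hk⟩ := Submodule.mem_span_singleton.1 hfv
    refine Submodule.mem_span_singleton.2 ⟨σ.symm k, semiMap_injective g σ ?_⟩
    rw [semiMap_smul, hg, hΦv, hΦh, σ.apply_symm_apply, hk]
  have hopp : ∀ {x : ι → F}, Q x = 0 → B' u x ≠ 0 → h x ∈ Submodule.span F {x} := by
    intro x hx hux
    set x' := (B' u x)⁻¹ • x with hx'
    have hx'u : B' u x' = 1 := by rw [hx', QuadraticMap.polar_smul_right, smul_eq_mul, inv_mul_cancel₀ hux]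
    have hQx' : Q x' = 0 := by rw [hx', q_smul, hx, mul_zero]
    obtain ⟨h0, hmove⟩ := sg_moves hu hv huv hQx' hx'u
    have h1 := hh.equivariant hv hv0 (g := ⟨sg u (x' - v), sg_mem G _ _⟩) (h := ⟨sg u (x' - v), sg_mem G _ _⟩)
      (hfix _ h0)
    rw [show mat Q (sg u (x' - v)) *ᵥ v = x' from hmove] at h1
    obtain ⟨l, hl⟩ := Submodule.mem_span_singleton.1 hv'
    rw [← hl, mulVec_smul, hmove] at h1
    have h2 : h x' ∈ Submodule.span F {x'} :=
      (Submodule.span_singleton_le_iff_mem _ _).2 (Submodule.smul_mem _ _ (Submodule.mem_span_singleton_self _)) h1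
    have hx'0 : x' ≠ 0 := fun e => by rw [e, QuadraticMap.polar_zero_right] at hx'u; exact zero_ne_one hx'u
    have h3 := hh.smul_mem hQx' hx'0 (x := x)
      (Submodule.mem_span_singleton.2 ⟨B' u x, by rw [hx', smul_smul, mul_inv_cancel₀ hux, one_smul]⟩)
      (fun e => hux (by rw [e, QuadraticMap.polar_zero_right]))
    have h4 : Submodule.span F {x'} ≤ Submodule.span F {x} := by
      rw [Submodule.span_singleton_le_iff_mem, hx']
      exact Submodule.smul_mem _ _ (Submodule.mem_span_singleton_self x)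
    exact h4 ((Submodule.span_singleton_le_iff_mem _ _).2 h2 h3)
  have hpts : ∀ {x : ι → F}, Q x = 0 → x ≠ 0 → h x ∈ Submodule.span F {x} := by
    intro x hx hx0
    by_cases hux : B' u x = 0
    swap
    · exact hopp hx hux
    by_cases hxu : x ∈ Submodule.span F {u}
    · obtain ⟨k, rfl⟩ := Submodule.mem_span_singleton.1 hxu
      have h1 := (Submodule.span_singleton_le_iff_mem _ _).2 hu' (hh.smul_mem hu hu0 hxu hx0)
      have hk : k ≠ 0 := fun e => hx0 (by rw [e, zero_smul])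
      rwa [Submodule.span_singleton_smul_eq (IsUnit.mk0 k hk)]
    have hline := isLine_span hu hx hux hu0 hxu
    have hL : Maps G (β⁻¹ * α) (Submodule.span F {u, x}) (Submodule.span F {u, x}) := by
      refine ⟨hline, hline, ?_⟩
      have hfx : ∀ z ∈ R G (Submodule.span F {u, x}), (β⁻¹ * α) z = z := by
        intro z hz
        obtain ⟨c, rfl⟩ := (mem_R G hline (Submodule.subset_span (by simp)) (Submodule.subset_span (by simp)) rfl).1 hz
        exact hfix _ (by rw [QuadraticMap.polar_smul_right, hux, smul_zero])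
      ext z
      constructor
      · rintro ⟨y, hy, rfl⟩
        exact (hfx y hy).symm ▸ hy
      · intro hz
        exact ⟨z, hz, hfx z hz⟩
    obtain ⟨a, b, hab⟩ := Submodule.mem_span_pair.1 (((hh x hx hx0).2.2 _ _ hL).1 (Submodule.subset_span (by simp)))
    obtain ⟨y0, hy1, hy2⟩ := exists_pick G (notMem_swap hu0 hxu)
    have hy2x := hy2 x (Submodule.mem_span_singleton_self x)
    set y := y0 + (-Q y0) • u with hy
    have hQy : Q y = 0 := by rw [hy, WittQuad.val_smul_add, hu, comm' y0 u, hy1]; ring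
    have huy : B' u y = 1 := by
      simp [hy, QuadraticMap.polar_add_right, QuadraticMap.polar_smul_right, self_zero hu, hy1]
    have hxy : B' x y = 0 := by
      simp [hy, QuadraticMap.polar_add_right, QuadraticMap.polar_smul_right, comm' x u, hux, hy2x]
    have hy0 : y ≠ 0 := fun e => by rw [e, QuadraticMap.polar_zero_right] at huy; exact zero_ne_one huy
    obtain ⟨l, hl⟩ := Submodule.mem_span_singleton.1 (hopp hQy (by rw [huy]; exact one_ne_zero))
    have hl0 : l ≠ 0 := fun e => (hh y hQy hy0).2.1 (by rw [← hl, e, zero_smul])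
    have hperp := (hh.orth hx hx0 hQy hy0).2 hxy
    rw [← hab, ← hl] at hperp
    simp [QuadraticMap.polar_add_left, QuadraticMap.polar_smul_left, QuadraticMap.polar_smul_right, huy, hxy, hl0]
      at hperp
    rw [← hab, hperp, zero_smul, zero_add]
    exact Submodule.smul_mem _ _ (Submodule.mem_span_singleton_self x)
  refine MulEquiv.ext fun z => ?_
  obtain ⟨s, rfl⟩ := QuotientGroup.mk_surjective z
  obtain ⟨t, ht⟩ := QuotientGroup.mk_surjective ((β⁻¹ * α) (QuotientGroup.mk s))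
  rw [MulAut.one_apply, ← ht]
  refine QuotientGroup.eq.2 ?_
  have hfixes : ∀ L : SPoint Q, (t⁻¹ * s).1 • L = L := by
    intro L
    have hw := rep_sing Q L
    have hw0 := rep_ne Q L
    set w := rep Q L with hwdef
    have h1 := hh.equivariant hw hw0 ht.symm
    obtain ⟨k, hk⟩ := Submodule.mem_span_singleton.1 (hpts hw hw0)
    obtain ⟨k', hk'⟩ := Submodule.mem_span_singleton.1
      (hpts (x := mat Q s.1 *ᵥ w) (by rw [(mem_iff Q).mp s.1.2, hw]) (mat_ne_zero Q s.1 hw0))
    have hk'0 : k' ≠ 0 := fun e =>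
      (hh _ (by rw [(mem_iff Q).mp s.1.2, hw]) (mat_ne_zero Q s.1 hw0)).2.1 (by rw [← hk', e, zero_smul])
    rw [← hk', ← hk, mulVec_smul] at h1
    obtain ⟨j, hj⟩ := Submodule.mem_span_singleton.1 ((Submodule.smul_mem_iff _ hk'0).1 h1)
    have h2 : mat Q (t⁻¹ * s).1 *ᵥ w = (j * k) • w := by
      rw [Subgroup.coe_mul, Subgroup.coe_inv, mat, mulVec_mul]
      show mat Q t.1⁻¹ *ᵥ (mat Q s.1 *ᵥ w) = _
      rw [← hj, smul_smul, mulVec_smul, mulVec_inv_cancel]
    rw [← mkPt_rep Q L, smul_mkPt]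
    refine mkPt_smul Q _ _ (fun e => mat_ne_zero Q (t⁻¹ * s).1 hw0 ?_) _ _ h2
    rw [h2, e, zero_smul]
  obtain ⟨c, hc'⟩ := scalar_of_fixes Q G.nd G.big _ hfixes
  exact mem_center_of_scalar Q _ hc'

/-! ### The general case -/

include G in
/-- Every automorphism is induced by a semisimilarity. -/
theorem gamma_eq_top (hH : Narrow Q) : Cfsg.gammaPOmega F (⇑Q) = ⊤ := by
  classical
  rw [eq_top_iff]
  rintro α -
  have hb := G.big
  obtain ⟨u, -, v, -, hu, hv, huv⟩ := exists_pair_perp Q G.nd ⊥ (by rw [finrank_bot]; omega)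
  have hu0 : u ≠ 0 := fun h => by rw [h, QuadraticMap.polar_zero_left] at huv; exact zero_ne_one huv
  have hv0 : v ≠ 0 := fun h => by rw [h, QuadraticMap.polar_zero_right] at huv; exact zero_ne_one huv
  obtain ⟨f, hf⟩ := exists_pointMap G hH α
  obtain ⟨hfu, hfu0, -⟩ := hf u hu hu0
  obtain ⟨hfv, hfv0, -⟩ := hf v hv hv0
  obtain ⟨g, -, hg⟩ := exists_omega_map Q G.nd hb hu0 hfu0 (by rw [hu, hfu])
  have hne : B' (f u) (f v) ≠ 0 := fun e => by
    rw [hf.orth hu hu0 hv hv0, huv] at e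
    exact one_ne_zero e
  set b := B' u (mat Q g⁻¹ *ᵥ f v) with hb'
  have hbne : b ≠ 0 := by
    rw [hb', ← mulVec_inv_cancel Q g u, hg, polar_act]
    exact hne
  set x := b⁻¹ • (mat Q g⁻¹ *ᵥ f v) with hx
  have hQx : Q x = 0 := by rw [hx, q_smul, (mem_iff Q).mp g⁻¹.2, hfv, mul_zero]
  have hux : B' u x = 1 := by rw [hx, QuadraticMap.polar_smul_right, ← hb', smul_eq_mul, inv_mul_cancel₀ hbne]
  obtain ⟨h0, hmove⟩ := sg_moves hu hv huv hQx hux
  set k : Iso := g * sg u (x - v) with hk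
  have hku : mat Q k *ᵥ u = f u := by
    rw [hk, mat, mulVec_mul]
    show mat Q g *ᵥ (mat Q (sg u (x - v)) *ᵥ u) = f u
    rw [sg_fix hu h0 (self_zero hu) (by rw [comm']; exact h0), hg]
  have hkv : mat Q k *ᵥ v = b⁻¹ • f v := by
    rw [hk, mat, mulVec_mul]
    show mat Q g *ᵥ (mat Q (sg u (x - v)) *ᵥ v) = _
    rw [hmove, hx, mulVec_smul, ← mulVec_mul, mul_inv_cancel]
    simp
  set σ := RingEquiv.refl F
  have hc : ∀ y : ι → F, Q (((k : GL ι F) : Matrix ι ι F) *ᵥ fun i => σ (y i)) = ((1 : Fˣ) : F) * σ (Q y) :=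
    fun y => by
      simp only [σ, RingEquiv.refl_apply, Units.val_one, one_mul]
      exact (mem_iff Q).mp k.2 y
  have hp : Cfsg.IsSemisimilarityPair (⇑Q) (k : GL ι F) σ := ⟨_, hc⟩
  have hsm : ∀ y, semiMap (k : GL ι F) σ y = mat Q k *ᵥ y := fun y => rfl
  let f' : (ι → F) → ι → F := fun w => mat Q k⁻¹ *ᵥ f w
  have hf' : IsPointMap G ((semiPO (k : GL ι F) σ hp)⁻¹ * α) f' := by
    refine hf.comp (semi_pointMap G hp hc) fun w hw hw0 => ?_
    obtain ⟨h1, h2, -⟩ := hf w hw hw0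
    refine ⟨by rw [(mem_iff Q).mp k⁻¹.2, h1], mat_ne_zero Q k⁻¹ h2, ?_⟩
    rw [hsm]
    show mat Q k *ᵥ (mat Q k⁻¹ *ᵥ f w) = f w
    rw [← mulVec_mul, mul_inv_cancel]
    simp
  have h1 : f' u ∈ Submodule.span F {u} := by
    show mat Q k⁻¹ *ᵥ f u ∈ _
    rw [← hku, mulVec_inv_cancel]
    exact Submodule.mem_span_singleton_self u
  have h2 : f' v ∈ Submodule.span F {v} := by
    show mat Q k⁻¹ *ᵥ f v ∈ _
    have e : f v = b • (mat Q k *ᵥ v) := by rw [hkv, smul_smul, mul_inv_cancel₀ hbne, one_smul]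
    rw [e, mulVec_smul, mulVec_inv_cancel]
    exact Submodule.smul_mem _ _ (Submodule.mem_span_singleton_self v)
  have hmem := Subgroup.mul_mem _ (semi_mem_gamma hp) (normal_mem_gamma G hH hf' hu hv huv h1 h2)
  rwa [mul_inv_cancel_left] at hmem

end Cfsg.Lib.OrthAut
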