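import Cfsg.Agent.Known.OrthAut.Centre

/-!
Lines that meet are recognised by the root groups; an automorphism induces a map of singular points.
-/

set_option autoImplicit false
set_option linter.unusedSectionVars false
set_option linter.style.haveILetI false

namespace Cfsg.Lib.OrthAut

open Matrix Cfsg.Lib.Classical Cfsg.Lib.Classical.Refl

universe u

variable {F : Type u} [Field F] [Finite F] {ι : Type} [Fintype ι] [DecidableEq ι] {Q : QuadraticForm F (ι → F)}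

set_option quotPrecheck false
local notation "B'" => QuadraticMap.polar (DFunLike.coe Q)
local notation "Iso" => Cfsg.isometryGroup F (DFunLike.coe Q)
local notation "Om" => Cfsg.Omega F (DFunLike.coe Q)
local notation "Pm" => Cfsg.POmega F (DFunLike.coe Q)
local notation "Sub'" => Submodule F (ι → F)

variable (Q) in
/-- Either the dimension is at least nine or the Witt index is at most three. -/
def Narrow : Prop :=
  9 ≤ Fintype.card ι ∨ ∀ T : Sub', (∀ x ∈ T, Q x = 0) → Module.finrank F T ≤ 3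

variable (G : Good Q)

/-- Common neighbours. -/
def CN (L M N : Sub') : Prop := IsLine Q N ∧ Adj G L N ∧ Adj G M N

/-- The configuration of two orthogonal skew lines. -/
def Crit (L M : Sub') : Prop :=
  (∃ N N', CN G L M N ∧ CN G L M N' ∧ Adj G N N') ∧
    ¬ ∃ N K₁ K₂ K₃, CN G L M N ∧ (CN G L M K₁ ∧ Adj G N K₁) ∧ (CN G L M K₂ ∧ Adj G N K₂) ∧
      (CN G L M K₃ ∧ Adj G N K₃) ∧ (K₁ ≠ K₂ ∧ ¬ Adj G K₁ K₂) ∧ (K₁ ≠ K₃ ∧ ¬ Adj G K₁ K₃) ∧
      (K₂ ≠ K₃ ∧ ¬ Adj G K₂ K₃)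

theorem perp_span {a b : ι → F} {M : Sub'} (ha : ∀ y ∈ M, B' a y = 0) (hb : ∀ y ∈ M, B' b y = 0) :
    ∀ x ∈ Submodule.span F ({a, b} : Set (ι → F)), ∀ y ∈ M, B' x y = 0 := by
  intro x hx y hy
  obtain ⟨s, t, rfl⟩ := Submodule.mem_span_pair.1 hx
  simp [QuadraticMap.polar_add_left, QuadraticMap.polar_smul_left, ha y hy, hb y hy]

theorem crit_of_disjoint {L M : Sub'} (hL : IsLine Q L) (hM : IsLine Q M) (hd : L ⊓ M = ⊥)
    (hp : ∀ a ∈ L, ∀ b ∈ M, B' a b = 0) : Crit G L M := by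
  have h0 : ∀ {z : ι → F}, z ∈ L → z ∈ M → z = 0 := fun h1 h2 => by
    simpa [hd] using (Submodule.mem_inf.2 ⟨h1, h2⟩ : _ ∈ L ⊓ M)
  have hall : ∀ x ∈ L ⊔ M, ∀ y ∈ L ⊔ M, B' x y = 0 := by
    intro x hx y hy
    obtain ⟨a, ha, b, hb, rfl⟩ := Submodule.mem_sup.1 hx
    obtain ⟨c, hc, d, hd', rfl⟩ := Submodule.mem_sup.1 hy
    simp [QuadraticMap.polar_add_left, QuadraticMap.polar_add_right, hL.polar ha hc, hM.polar hb hd', hp a ha d hd',
      comm' b c, hp c hc b hb]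
  have hmeet : ∀ {x : ι → F} {A B : Sub'}, x ≠ 0 → x ∈ A → x ∈ B → A ⊓ B ≠ ⊥ := fun hx h1 h2 h =>
    hx (by have h3 := Submodule.mem_inf.2 ⟨h1, h2⟩; rw [h] at h3; exact (Submodule.mem_bot F).1 h3)
  have mk : ∀ {x y : ι → F}, x ∈ L → x ≠ 0 → y ∈ M → y ≠ 0 → CN G L M (Submodule.span F {x, y}) := by
    intro x y hx hx0 hy hy0
    have hyx : y ∉ Submodule.span F {x} := fun h =>
      hy0 (h0 ((Submodule.span_singleton_le_iff_mem _ _).2 hx h) hy)
    have hline := isLine_span (hL.2 x hx) (hM.2 y hy) (hp x hx y hy) hx0 hyx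
    have hle : Submodule.span F ({x, y} : Set (ι → F)) ≤ L ⊔ M := by
      rw [Submodule.span_le]
      rintro z (rfl | rfl)
      exacts [Submodule.mem_sup_left hx, Submodule.mem_sup_right hy]
    refine ⟨hline, (adj_iff G hL hline).2 ⟨fun e => hy0 (h0 (e ▸ Submodule.subset_span (by simp)) hy), ?_, ?_⟩,
      (adj_iff G hM hline).2 ⟨fun e => hx0 (h0 hx (e ▸ Submodule.subset_span (by simp))), ?_, ?_⟩⟩
    · exact hmeet hx0 hx (Submodule.subset_span (by simp))
    · exact fun a ha b hb => hall a (Submodule.mem_sup_left ha) b (hle hb)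
    · exact hmeet hy0 hy (Submodule.subset_span (by simp))
    · exact fun a ha b hb => hall a (Submodule.mem_sup_right ha) b (hle hb)
  have form : ∀ {N : Sub'}, CN G L M N → N ≤ L ⊔ M ∧ ∃ x ∈ L, x ≠ 0 ∧ x ∈ N ∧ ∃ y ∈ M, y ≠ 0 ∧ y ∈ N ∧
      N = Submodule.span F {x, y} := by
    rintro N ⟨hN, hLN, hMN⟩
    obtain ⟨x, ⟨hxL, hxN⟩, hx0⟩ := Submodule.exists_mem_ne_zero_of_ne_bot ((adj_iff G hL hN).1 hLN).2.1
    obtain ⟨y, ⟨hyM, hyN⟩, hy0⟩ := Submodule.exists_mem_ne_zero_of_ne_bot ((adj_iff G hM hN).1 hMN).2.1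
    have hyx : y ∉ Submodule.span F {x} := fun h =>
      hy0 (h0 ((Submodule.span_singleton_le_iff_mem _ _).2 hxL h) hyM)
    have e : N = Submodule.span F {x, y} := by
      refine ((isLine_span (hL.2 x hxL) (hM.2 y hyM) (hp x hxL y hyM) hx0 hyx).eq_of_le hN ?_).symm
      rw [Submodule.span_le]
      rintro z (rfl | rfl) <;> assumption
    refine ⟨?_, x, hxL, hx0, hxN, y, hyM, hy0, hyN, e⟩
    rw [e, Submodule.span_le]
    rintro z (rfl | rfl)
    exacts [Submodule.mem_sup_left hxL, Submodule.mem_sup_right hyM]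
  obtain ⟨u, hu, hu0⟩ := hL.ne_zero
  obtain ⟨a, ha, ha0⟩ := hM.ne_zero
  obtain ⟨b, hb, hba, -⟩ := hM.basis ha ha0
  have hb0 : b ≠ 0 := fun h => hba (by rw [h]; exact zero_mem _)
  refine ⟨⟨_, _, mk hu hu0 ha ha0, mk hu hu0 hb hb0,
    (adj_iff G (mk hu hu0 ha ha0).1 (mk hu hu0 hb hb0).1).2 ⟨fun e => hba ?_, ?_, ?_⟩⟩, ?_⟩
  · have hmem : b ∈ Submodule.span F ({u, a} : Set (ι → F)) := by rw [e]; exact Submodule.subset_span (by simp)
    obtain ⟨s, t, hst⟩ := Submodule.mem_span_pair.1 hmem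
    have : s • u = 0 := h0 (L.smul_mem s hu) (by
      rw [show s • u = b - t • a by rw [← hst]; abel]; exact sub_mem hb (M.smul_mem t ha))
    exact Submodule.mem_span_singleton.2 ⟨t, by rw [← hst, this, zero_add]⟩
  · exact hmeet hu0 (Submodule.subset_span (by simp)) (Submodule.subset_span (by simp))
  · exact fun x hx y hy => hall x ((form (mk hu hu0 ha ha0)).1 hx) y ((form (mk hu hu0 hb hb0)).1 hy)
  rintro ⟨N, K₁, K₂, K₃, hN, ⟨h1, hN1⟩, ⟨h2, hN2⟩, ⟨h3, hN3⟩, ⟨d12, n12⟩, ⟨d13, n13⟩, ⟨d23, n23⟩⟩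
  obtain ⟨-, x, hxL, hx0, hxN, y, hyM, hy0, hyN, e⟩ := form hN
  have pick : ∀ {K : Sub'}, CN G L M K → Adj G N K → x ∈ K ∨ y ∈ K := by
    intro K hK hNK
    obtain ⟨z, ⟨hzN, hzK⟩, hz0⟩ := Submodule.exists_mem_ne_zero_of_ne_bot ((adj_iff G hN.1 hK.1).1 hNK).2.1
    obtain ⟨-, x', hx', -, hxK, y', hy', -, hyK, eK⟩ := form hK
    rw [e] at hzN
    rw [eK] at hzK
    obtain ⟨s, t, rfl⟩ := Submodule.mem_span_pair.1 hzN
    obtain ⟨s', t', h'⟩ := Submodule.mem_span_pair.1 hzK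
    have hz : s • x - s' • x' = 0 := h0 (sub_mem (L.smul_mem s hxL) (L.smul_mem s' hx')) (by
      rw [show s • x - s' • x' = t' • y' - t • y by linear_combination (norm := module) -h']
      exact sub_mem (M.smul_mem t' hy') (M.smul_mem t hyM))
    rw [sub_eq_zero] at hz
    have hyy : t • y = t' • y' := by linear_combination (norm := module) -h' - hz
    by_cases hs : s = 0
    · have ht : t ≠ 0 := fun ht => hz0 (by simp [hs, ht])
      exact Or.inr ((K.smul_mem_iff ht).1 (hyy ▸ K.smul_mem t' hyK))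
    · exact Or.inl ((K.smul_mem_iff hs).1 (hz ▸ K.smul_mem s' hxK))
  have clash : ∀ {K K' : Sub'} {z : ι → F}, CN G L M K → CN G L M K' → z ≠ 0 → z ∈ K → z ∈ K' → K ≠ K' →
      ¬ Adj G K K' → False := fun hK hK' hz hzK hzK' hne hn =>
    hn ((adj_iff G hK.1 hK'.1).2 ⟨hne, hmeet hz hzK hzK',
      fun p hp q hq => hall p ((form hK).1 hp) q ((form hK').1 hq)⟩)
  rcases pick h1 hN1 with e1 | e1 <;> rcases pick h2 hN2 with e2 | e2 <;> rcases pick h3 hN3 with e3 | e3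
  all_goals first
    | exact clash h1 h2 hx0 e1 e2 d12 n12
    | exact clash h1 h2 hy0 e1 e2 d12 n12
    | exact clash h1 h3 hx0 e1 e3 d13 n13
    | exact clash h1 h3 hy0 e1 e3 d13 n13
    | exact clash h2 h3 hx0 e2 e3 d23 n23
    | exact clash h2 h3 hy0 e2 e3 d23 n23

theorem not_crit_of_meet (hH : Narrow Q) {L M : Sub'} (hL : IsLine Q L) (hM : IsLine Q M) (hne : L ≠ M)
    (hmeet : L ⊓ M ≠ ⊥) (hp : ¬ ∀ a ∈ L, ∀ b ∈ M, B' a b = 0) : ¬ Crit G L M := by
  rintro ⟨⟨N, N', hN, hN', hNN⟩, hno⟩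
  obtain ⟨w, ⟨hwL, hwM⟩, hw0⟩ := Submodule.exists_mem_ne_zero_of_ne_bot hmeet
  obtain ⟨v, hv, hvw, hsp⟩ := hL.basis hwL hw0
  obtain ⟨b, hb, hbw, hsp'⟩ := hM.basis hwM hw0
  have hvb : B' v b ≠ 0 := fun h => hp (by
    intro x hx y hy
    rw [hsp] at hx
    rw [hsp'] at hy
    obtain ⟨s, t, rfl⟩ := Submodule.mem_span_pair.1 hx
    obtain ⟨s', t', rfl⟩ := Submodule.mem_span_pair.1 hy
    simp [QuadraticMap.polar_add_left, QuadraticMap.polar_add_right, QuadraticMap.polar_smul_left,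
      QuadraticMap.polar_smul_right, self_zero (hL.2 w hwL), hM.polar hwM hb, comm' v w, hL.polar hwL hv, h])
  have through : ∀ {K : Sub'}, CN G L M K →
      w ∈ K ∧ (∀ k ∈ K, B' v k = 0) ∧ (∀ k ∈ K, B' b k = 0) := by
    rintro K ⟨hK, hLK, hMK⟩
    obtain ⟨-, hm1, hp1⟩ := (adj_iff G hL hK).1 hLK
    obtain ⟨-, hm2, hp2⟩ := (adj_iff G hM hK).1 hMK
    refine ⟨?_, hp1 v hv, hp2 b hb⟩
    by_contra hwK
    obtain ⟨z, ⟨hzL, hzK⟩, hz0⟩ := Submodule.exists_mem_ne_zero_of_ne_bot hm1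
    obtain ⟨z', ⟨hzM, hzK'⟩, hz0'⟩ := Submodule.exists_mem_ne_zero_of_ne_bot hm2
    rw [hsp] at hzL
    rw [hsp'] at hzM
    obtain ⟨s, t, rfl⟩ := Submodule.mem_span_pair.1 hzL
    obtain ⟨s', t', rfl⟩ := Submodule.mem_span_pair.1 hzM
    have ht : t ≠ 0 := fun ht => hwK (by
      rw [ht, zero_smul, add_zero] at hzK hz0
      exact (K.smul_mem_iff fun hs => hz0 (by rw [hs, zero_smul])).1 hzK)
    have ht' : t' ≠ 0 := fun ht => hwK (by
      rw [ht, zero_smul, add_zero] at hzK' hz0'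
      exact (K.smul_mem_iff fun hs => hz0' (by rw [hs, zero_smul])).1 hzK')
    have := hK.polar hzK hzK'
    simp [QuadraticMap.polar_add_left, QuadraticMap.polar_add_right, QuadraticMap.polar_smul_left,
      QuadraticMap.polar_smul_right, self_zero (hL.2 w hwL), hM.polar hwM hb, comm' v w, hL.polar hwL hv, ht, ht',
      hvb] at this
  obtain ⟨hwN, hvN, hbN⟩ := through hN
  obtain ⟨hwN', hvN', hbN'⟩ := through hN'
  obtain ⟨hNne, -, hNperp⟩ := (adj_iff G hN.1 hN'.1).1 hNN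
  rcases hH with hbig | hsmall
  · obtain ⟨n, hn, hnw, hspN⟩ := hN.1.basis hwN hw0
    set S := Submodule.span F (Set.range ![w, v, b, n]) with hS
    set X := HypQuad.perp Q S
    have hwS : w ∈ S := Submodule.subset_span ⟨0, rfl⟩
    have hvS : v ∈ S := Submodule.subset_span ⟨1, rfl⟩
    have hbS : b ∈ S := Submodule.subset_span ⟨2, rfl⟩
    have hnS : n ∈ S := Submodule.subset_span ⟨3, rfl⟩
    have hSX : S ⊓ X ≤ Submodule.span F {w, n} := by
      rintro z ⟨hz, hzX⟩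
      obtain ⟨c, rfl⟩ := (Submodule.mem_span_range_iff_exists_fun F).1 hz
      have e1 := (HypQuad.mem_perp Q).1 hzX b hbS
      have e2 := (HypQuad.mem_perp Q).1 hzX v hvS
      simp [Fin.sum_univ_four, QuadraticMap.polar_add_right, QuadraticMap.polar_smul_right, hvN n hn, hbN n hn,
        comm' b w, hM.polar hwM hb, comm' v w, hL.polar hwL hv, self_zero (hL.2 v hv), self_zero (hM.2 b hb),
        comm' b v, hvb] at e1 e2
      refine Submodule.mem_span_pair.2 ⟨c 0, c 3, ?_⟩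
      simp [Fin.sum_univ_four, e1, e2]
    have hX : Fintype.card ι ≤ Module.finrank F X + 4 := by
      have h1 := HypQuad.finrank_perp Q G.nd S
      have h2 := finrank_range_le ![w, v, b, n]
      rw [finrank_V] at h1
      rw [← hS] at h2
      change Module.finrank F X = _ at h1
      omega
    have hSX2 : Module.finrank F ↥(S ⊓ X) ≤ 2 := (Submodule.finrank_mono hSX).trans (finrank_span_two w n)
    obtain ⟨p, hp', hQp, hpS⟩ := exists_singular_avoid (Q := Q) X (S ⊓ X) (by omega)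
    obtain ⟨q, hq, hQq, hpq⟩ := exists_partner hp' hQp (by
      by_contra hc
      push Not at hc
      refine hpS ⟨?_, hp'⟩
      rw [← perp_perp Q G.nd S, SetLike.mem_coe, HypQuad.mem_perp]
      exact fun y hy => by rw [comm']; exact hc y hy)
    set Z := HypQuad.perp Q (S ⊔ Submodule.span F {p, q}) with hZ
    have hZmem : ∀ z ∈ Z, z ∈ X ∧ B' p z = 0 ∧ B' q z = 0 := fun z hz => by
      rw [hZ, HypQuad.mem_perp] at hz
      exact ⟨(HypQuad.mem_perp Q).2 fun s hs => hz s (Submodule.mem_sup_left hs),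
        hz p (Submodule.mem_sup_right (Submodule.subset_span (by simp))),
        hz q (Submodule.mem_sup_right (Submodule.subset_span (by simp)))⟩
    obtain ⟨y, hy, hQy⟩ : ∃ y ∈ Z, Q y ≠ 0 := by
      by_contra hc
      push Not at hc
      have h1 := HypQuad.le_perp Q hc
      rw [hZ, perp_perp Q G.nd, ← hZ] at h1
      have h2 : Z ≤ S ⊓ X := fun z hz => by
        obtain ⟨hzX, hpz, hqz⟩ := hZmem z hz
        refine ⟨?_, hzX⟩
        obtain ⟨s, hs, r, hr, rfl⟩ := Submodule.mem_sup.1 (h1 hz)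
        obtain ⟨i, j, rfl⟩ := Submodule.mem_span_pair.1 hr
        have hps : B' p s = 0 := by rw [comm']; exact (HypQuad.mem_perp Q).1 hp' s hs
        have hqs : B' q s = 0 := by rw [comm']; exact (HypQuad.mem_perp Q).1 hq s hs
        simp [QuadraticMap.polar_add_right, QuadraticMap.polar_smul_right, self_zero hQp, self_zero hQq, comm' q p,
          hpq, hps, hqs] at hpz hqz
        simpa [hpz, hqz] using hs
      have h3 := (Submodule.finrank_mono h2).trans hSX2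
      have h4 := HypQuad.finrank_perp Q G.nd (S ⊔ Submodule.span F {p, q})
      have h5 := Submodule.finrank_sup_add_finrank_inf_eq S (Submodule.span F {p, q})
      have h6 := finrank_range_le ![w, v, b, n]
      have h7 := finrank_span_two p q
      rw [finrank_V, ← hZ] at h4
      rw [← hS] at h6
      omega
    obtain ⟨hyX, hpy, hqy⟩ := hZmem y hy
    set r := q + y + (-Q y) • p with hr
    have hrX : r ∈ X := add_mem (add_mem hq hyX) (X.smul_mem _ hp')
    have hQr : Q r = 0 := by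
      rw [hr, WittQuad.val_smul_add, q_add, hQp, hQq, hqy, QuadraticMap.polar_add_left, comm' q p, hpq, comm' y p,
        hpy]
      ring
    have hpr : B' p r = 1 := by
      simp [hr, QuadraticMap.polar_add_right, QuadraticMap.polar_smul_right, self_zero hQp, hpq, hpy]
    have hqr : B' q r ≠ 0 := by
      simp [hr, QuadraticMap.polar_add_right, QuadraticMap.polar_smul_right, self_zero hQq, hqy, comm' q p, hpq, hQy]
    have hperpS : ∀ {z : ι → F}, z ∈ X → ∀ s ∈ S, B' s z = 0 := fun hz => (HypQuad.mem_perp Q).1 hz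
    have mkK : ∀ {z z' : ι → F}, z ∈ X → Q z = 0 → z' ∈ X → B' z z' ≠ 0 →
        CN G L M (Submodule.span F {w, z}) ∧ Adj G N (Submodule.span F {w, z}) := by
      intro z z' hz hQz hz' hzz'
      have hzw : z ∉ Submodule.span F {w} := fun h => by
        obtain ⟨c, rfl⟩ := Submodule.mem_span_singleton.1 h
        exact hzz' (by rw [QuadraticMap.polar_smul_left, hperpS hz' w hwS, smul_zero])
      have hK := isLine_span (hL.2 w hwL) hQz (hperpS hz w hwS) hw0 hzw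
      have hm : ∀ {A : Sub'}, w ∈ A → A ⊓ Submodule.span F {w, z} ≠ ⊥ := fun h e =>
        hw0 (by simpa [e] using (show w ∈ _ ⊓ Submodule.span F {w, z} from ⟨h, Submodule.subset_span (by simp)⟩))
      have po : ∀ {a : ι → F} {A : Sub'}, A = Submodule.span F {w, a} → B' w a = 0 → B' a z = 0 →
          ∀ x ∈ A, ∀ y ∈ Submodule.span F ({w, z} : Set (ι → F)), B' x y = 0 := by
        intro a A hA ha ha' x hx y hy
        rw [hA] at hx
        refine perp_span ?_ ?_ x hx y hy <;>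
          (intro y' hy'; obtain ⟨s, t, rfl⟩ := Submodule.mem_span_pair.1 hy') <;>
          simp [QuadraticMap.polar_add_right, QuadraticMap.polar_smul_right, self_zero (hL.2 w hwL),
            hperpS hz w hwS, comm' a w, ha, ha']
      refine ⟨⟨hK, (adj_iff G hL hK).2 ⟨fun e => hvb ?_, hm hwL, po hsp (hL.polar hwL hv) (hperpS hz v hvS)⟩,
        (adj_iff G hM hK).2 ⟨fun e => hvb ?_, hm hwM, po hsp' (hM.polar hwM hb) (hperpS hz b hbS)⟩⟩,
        (adj_iff G hN.1 hK).2 ⟨fun e => hzz' ?_, hm hwN, po hspN (hN.1.polar hwN hn) (hperpS hz n hnS)⟩⟩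
      · rw [e] at hv
        obtain ⟨s, t, rfl⟩ := Submodule.mem_span_pair.1 hv
        simp [QuadraticMap.polar_add_left, QuadraticMap.polar_smul_left, hM.polar hwM hb, comm' z b, hperpS hz b hbS]
      · rw [e] at hb
        obtain ⟨s, t, rfl⟩ := Submodule.mem_span_pair.1 hb
        simp [QuadraticMap.polar_add_right, QuadraticMap.polar_smul_right, comm' v w, hL.polar hwL hv,
          hperpS hz v hvS]
      · have hzN : z ∈ N := e ▸ Submodule.subset_span (by simp)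
        rw [hspN] at hzN
        obtain ⟨s, t, rfl⟩ := Submodule.mem_span_pair.1 hzN
        simp [QuadraticMap.polar_add_left, QuadraticMap.polar_smul_left, hperpS hz' w hwS, hperpS hz' n hnS]
    have sep : ∀ {z z' : ι → F}, Q z = 0 → B' z z' ≠ 0 → CN G L M (Submodule.span F {w, z}) →
        CN G L M (Submodule.span F {w, z'}) → Submodule.span F ({w, z} : Set (ι → F)) ≠ Submodule.span F {w, z'} ∧
          ¬ Adj G (Submodule.span F {w, z}) (Submodule.span F {w, z'}) := by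
      intro z z' hQz hzz' hA hB
      refine ⟨fun e => hzz' (hA.1.polar (Submodule.subset_span (by simp)) (e ▸ Submodule.subset_span (by simp))),
        fun hadj => hzz' (((adj_iff G hA.1 hB.1).1 hadj).2.2 z (Submodule.subset_span (by simp)) z'
          (Submodule.subset_span (by simp)))⟩
    have hK1 := mkK hp' hQp hq (by rw [hpq]; exact one_ne_zero)
    have hK2 := mkK hq hQq hrX hqr
    have hK3 := mkK hrX hQr hp' (by rw [comm', hpr]; exact one_ne_zero)
    exact hno ⟨N, _, _, _, hN, hK1, hK2, hK3, sep hQp (by rw [hpq]; exact one_ne_zero) hK1.1 hK2.1,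
      sep hQp (by rw [hpr]; exact one_ne_zero) hK1.1 hK3.1, sep hQq hqr hK2.1 hK3.1⟩
  · have hb' : ∀ x ∈ N ⊔ N', B' b x = 0 ∧ B' v x = 0 ∧ Q x = 0 := by
      intro x hx
      obtain ⟨s, hs, t, ht, rfl⟩ := Submodule.mem_sup.1 hx
      simp [QuadraticMap.polar_add_right, hbN s hs, hbN' t ht, hvN s hs, hvN' t ht, q_add, hN.1.2 s hs, hN'.1.2 t ht,
        hNperp s hs t ht]
    have h3 : 3 ≤ Module.finrank F ↥(N ⊔ N') := by
      have hlt : N < N ⊔ N' := lt_of_le_of_ne le_sup_left fun e =>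
        hNne (hN'.1.eq_of_le hN.1 (by rw [e]; exact le_sup_right)).symm
      have := Submodule.finrank_lt_finrank_of_lt hlt
      rw [hN.1.1] at this
      omega
    have hlt : N ⊔ N' < (N ⊔ N') ⊔ Submodule.span F {v} := lt_of_le_of_ne le_sup_left fun e =>
      hvb (by
        rw [comm']
        exact (hb' v (by rw [e]; exact Submodule.mem_sup_right (Submodule.mem_span_singleton_self v))).1)
    have h4 := Submodule.finrank_lt_finrank_of_lt hlt
    have h5 := hsmall ((N ⊔ N') ⊔ Submodule.span F {v}) fun x hx => by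
      obtain ⟨s, hs, t, ht, rfl⟩ := Submodule.mem_sup.1 hx
      obtain ⟨c, rfl⟩ := Submodule.mem_span_singleton.1 ht
      rw [WittQuad.val_smul_add, (hb' s hs).2.2, hL.2 v hv, comm' s v, (hb' s hs).2.1]
      ring
    omega

/-- Meeting lines are recognised by the root groups. -/
theorem meet_iff (hH : Narrow Q) {L M : Sub'} (hL : IsLine Q L) (hM : IsLine Q M) (hne : L ≠ M) :
    L ⊓ M ≠ ⊥ ↔ Adj G L M ∨ (Comm G L M ∧ ¬ Crit G L M) := by
  constructor
  · intro h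
    by_cases hp : ∀ a ∈ L, ∀ b ∈ M, B' a b = 0
    · exact Or.inl ((adj_iff G hL hM).2 ⟨hne, h, hp⟩)
    · exact Or.inr ⟨(comm_iff G hL hM).2 (Or.inl h), not_crit_of_meet G hH hL hM hne h hp⟩
  · rintro (h | ⟨hc, hn⟩)
    · exact ((adj_iff G hL hM).1 h).2.1
    · intro hd
      exact hn (crit_of_disjoint G hL hM hd (((comm_iff G hL hM).1 hc).resolve_left fun h => h hd))

/-! ### Automorphisms -/

/-- `α` carries the root group of `N` to that of `M`. -/
def Maps (α : MulAut Pm) (N M : Sub') : Prop :=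
  IsLine Q N ∧ IsLine Q M ∧ (R G N).map α.toMonoidHom = R G M

variable {G}

theorem Maps.symm {α : MulAut Pm} {N M : Sub'} (h : Maps G α N M) : Maps G α⁻¹ M N := by
  refine ⟨h.2.1, h.1, ?_⟩
  rw [← h.2.2, Subgroup.map_map, show (α⁻¹ : MulAut Pm).toMonoidHom.comp α.toMonoidHom = MonoidHom.id Pm from
    MonoidHom.ext α.symm_apply_apply, Subgroup.map_id]

theorem Maps.mem {α : MulAut Pm} {N M : Sub'} (h : Maps G α N M) {x : Pm} (hx : x ∈ R G N) : α x ∈ R G M :=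
  h.2.2 ▸ ⟨x, hx, rfl⟩

theorem Maps.unique {α : MulAut Pm} {N M M' : Sub'} (h : Maps G α N M) (h' : Maps G α N M') : M = M' :=
  R_inj G h.2.1 h'.2.1 (h.2.2.symm.trans h'.2.2)

theorem Maps.inj {α : MulAut Pm} {N N' M : Sub'} (h : Maps G α N M) (h' : Maps G α N' M) : N = N' :=
  h.symm.unique h'.symm

variable (G)

theorem exists_maps (α : MulAut Pm) {N : Sub'} (hN : IsLine Q N) : ∃ M, Maps G α N M := by
  obtain ⟨M, hM, e⟩ := exists_R_map G α hN
  exact ⟨M, hN, hM, e⟩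

theorem exists_maps' (α : MulAut Pm) {M : Sub'} (hM : IsLine Q M) : ∃ N, Maps G α N M := by
  obtain ⟨N, h⟩ := exists_maps G α⁻¹ hM
  exact ⟨N, by simpa using h.symm⟩

theorem comm_maps {α : MulAut Pm} {N M N' M' : Sub'} (h : Maps G α N M) (h' : Maps G α N' M') :
    Comm G N N' ↔ Comm G M M' := by
  constructor
  · intro hc
    rw [Comm, ← h.2.2, ← h'.2.2]
    rintro _ ⟨x, hx, rfl⟩ _ ⟨y, hy, rfl⟩
    exact (Commute.map (hc x hx y hy) α.toMonoidHom)
  · intro hc x hx y hy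
    refine α.injective ?_
    rw [map_mul, map_mul]
    exact hc _ (h.mem hx) _ (h'.mem hy)

theorem adj_maps_mp {α : MulAut Pm} {N M N' M' : Sub'} (h : Maps G α N M) (h' : Maps G α N' M')
    (ha : Adj G N N') : Adj G M M' := by
  obtain ⟨hne, hc, x, hx, y, hy, hx1, hy1, K, hK, hxy⟩ := ha
  obtain ⟨K', hK'⟩ := exists_maps G α hK
  refine ⟨fun e => hne (h.inj (e ▸ h')), (comm_maps G h h').1 hc, α x, h.mem hx, α y, h'.mem hy,
    fun e => hx1 (α.injective (e.trans α.map_one.symm)), fun e => hy1 (α.injective (e.trans α.map_one.symm)),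
    K', hK'.2.1, ?_⟩
  rw [← map_mul]
  exact hK'.mem hxy

theorem cn_maps {α : MulAut Pm} {L M L' M' N N' : Sub'} (hL : Maps G α L L') (hM : Maps G α M M')
    (hN : Maps G α N N') (h : CN G L M N) : CN G L' M' N' :=
  ⟨hN.2.1, adj_maps_mp G hL hN h.2.1, adj_maps_mp G hM hN h.2.2⟩

theorem three_maps {α : MulAut Pm} {K K' A A' : Sub'} (hK : Maps G α K K') (hA : Maps G α A A')
    (h : K ≠ A ∧ ¬ Adj G K A) : K' ≠ A' ∧ ¬ Adj G K' A' :=
  ⟨fun e => h.1 (hK.inj (e ▸ hA)), fun e => h.2 (adj_maps_mp G hK.symm hA.symm e)⟩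

theorem crit_maps_mp {α : MulAut Pm} {L M L' M' : Sub'} (hL : Maps G α L L') (hM : Maps G α M M')
    (h : Crit G L M) : Crit G L' M' := by
  obtain ⟨⟨N, N', hN, hN', ha⟩, hno⟩ := h
  obtain ⟨A, hA⟩ := exists_maps G α hN.1
  obtain ⟨A', hA'⟩ := exists_maps G α hN'.1
  refine ⟨⟨A, A', cn_maps G hL hM hA hN, cn_maps G hL hM hA' hN', adj_maps_mp G hA hA' ha⟩, ?_⟩
  rintro ⟨K, K₁, K₂, K₃, hK, h1, h2, h3, d12, d13, d23⟩
  obtain ⟨J, hJ⟩ := exists_maps G α⁻¹ hK.1
  obtain ⟨J₁, hJ₁⟩ := exists_maps G α⁻¹ h1.1.1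
  obtain ⟨J₂, hJ₂⟩ := exists_maps G α⁻¹ h2.1.1
  obtain ⟨J₃, hJ₃⟩ := exists_maps G α⁻¹ h3.1.1
  exact hno ⟨J, J₁, J₂, J₃, cn_maps G hL.symm hM.symm hJ hK,
    ⟨cn_maps G hL.symm hM.symm hJ₁ h1.1, adj_maps_mp G hJ hJ₁ h1.2⟩,
    ⟨cn_maps G hL.symm hM.symm hJ₂ h2.1, adj_maps_mp G hJ hJ₂ h2.2⟩,
    ⟨cn_maps G hL.symm hM.symm hJ₃ h3.1, adj_maps_mp G hJ hJ₃ h3.2⟩,
    three_maps G hJ₁ hJ₂ d12, three_maps G hJ₁ hJ₃ d13, three_maps G hJ₂ hJ₃ d23⟩

theorem meet_maps (hH : Narrow Q) {α : MulAut Pm} {L M L' M' : Sub'} (hL : Maps G α L L') (hM : Maps G α M M')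
    (h : L ⊓ M ≠ ⊥) : L' ⊓ M' ≠ ⊥ := by
  by_cases hne : L = M
  · subst hne
    obtain rfl := hL.unique hM
    intro e
    obtain ⟨x, hx, hx0⟩ := hL.2.1.ne_zero
    have h3 := Submodule.mem_inf.2 ⟨hx, hx⟩
    rw [e] at h3
    exact hx0 ((Submodule.mem_bot F).1 h3)
  · have hne' : L' ≠ M' := fun e => hne (hL.inj (e ▸ hM))
    refine (meet_iff G hH hL.2.1 hM.2.1 hne').2 ?_
    rcases (meet_iff G hH hL.1 hM.1 hne).1 h with h | ⟨hc, hn⟩
    · exact Or.inl (adj_maps_mp G hL hM h)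
    · exact Or.inr ⟨(comm_maps G hL hM).1 hc, fun hcr => hn (crit_maps_mp G hL.symm hM.symm hcr)⟩

/-- Through each singular point there are two lines that are not orthogonal. -/
theorem exists_star {w : ι → F} (hw : Q w = 0) (hw0 : w ≠ 0) :
    ∃ L M : Sub', IsLine Q L ∧ IsLine Q M ∧ w ∈ L ∧ w ∈ M ∧ L ≠ M ∧ ¬ Adj G L M := by
  have hb := G.big
  obtain ⟨x, hx, -⟩ := exists_pick G (S := ⊥) (u := w) (by simpa using hw0)
  have hfr := finrank_span_two w x
  obtain ⟨v, hv, b, hb', hQv, hQb, hvb⟩ := exists_pair_perp Q G.nd (Submodule.span F {w, x}) (by omega)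
  have h1 : ∀ {z : ι → F}, z ∈ HypQuad.perp Q (Submodule.span F {w, x}) → B' w z = 0 ∧ B' x z = 0 := fun hz =>
    ⟨(HypQuad.mem_perp Q).1 hz w (Submodule.subset_span (by simp)),
      (HypQuad.mem_perp Q).1 hz x (Submodule.subset_span (by simp))⟩
  have hns : ∀ {z z' : ι → F}, B' w z' = 0 → B' z z' = 1 → z ∉ Submodule.span F {w} := fun hwz' hzz' h => by
    obtain ⟨c, rfl⟩ := Submodule.mem_span_singleton.1 h
    rw [QuadraticMap.polar_smul_left, hwz', smul_zero] at hzz'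
    exact zero_ne_one hzz'
  have hLl := isLine_span hw hQv (h1 hv).1 hw0 (hns (h1 hb').1 hvb)
  have hMl := isLine_span hw hQb (h1 hb').1 hw0 (hns (z' := v) (h1 hv).1 (by rw [comm']; exact hvb))
  refine ⟨_, _, hLl, hMl, Submodule.subset_span (by simp), Submodule.subset_span (by simp), fun e => ?_, fun ha => ?_⟩
  · have := hLl.polar (Submodule.subset_span (show v ∈ ({w, v} : Set (ι → F)) by simp))
      (e ▸ Submodule.subset_span (show b ∈ ({w, b} : Set (ι → F)) by simp))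
    rw [hvb] at this
    exact one_ne_zero this
  · have := ((adj_iff G hLl hMl).1 ha).2.2 v (Submodule.subset_span (by simp)) b (Submodule.subset_span (by simp))
    rw [hvb] at this
    exact one_ne_zero this

theorem mem_of_meets {L M N : Sub'} (hL : IsLine Q L) (hM : IsLine Q M) (hN : IsLine Q N) (hne : L ≠ M)
    (hna : ¬ Adj G L M) {w : ι → F} (hw0 : w ≠ 0) (hwL : w ∈ L) (hwM : w ∈ M) (h1 : N ⊓ L ≠ ⊥) (h2 : N ⊓ M ≠ ⊥) :
    w ∈ N := by
  by_contra hwN
  obtain ⟨z, ⟨hzN, hzL⟩, hz0⟩ := Submodule.exists_mem_ne_zero_of_ne_bot h1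
  obtain ⟨z', ⟨hzN', hzM⟩, hz0'⟩ := Submodule.exists_mem_ne_zero_of_ne_bot h2
  have hcase : ∀ {A : Sub'} {y : ι → F}, IsLine Q A → w ∈ A → y ∈ A → y ∈ N → y ≠ 0 →
      A = Submodule.span F {w, y} := by
    intro A y hA hwA hyA hyN hy0
    have hyw : y ∉ Submodule.span F {w} := fun h => by
      obtain ⟨c, hc⟩ := Submodule.mem_span_singleton.1 h
      exact hwN ((N.smul_mem_iff fun h0 : c = 0 => hy0 (by rw [← hc, h0, zero_smul])).1 (hc.symm ▸ hyN))
    refine ((isLine_span (hA.2 w hwA) (hA.2 y hyA) (hA.polar hwA hyA) hw0 hyw).eq_of_le hA ?_).symm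
    rw [Submodule.span_le]
    rintro x (rfl | rfl) <;> assumption
  refine hna ((adj_iff G hL hM).2 ⟨hne, fun e => hw0 (by simpa [e] using (show w ∈ L ⊓ M from ⟨hwL, hwM⟩)), ?_⟩)
  intro a ha b hb
  have hwz := hL.polar hwL hzL
  have hwz' := hM.polar hwM hzM
  rw [hcase hL hwL hzL hzN hz0] at ha
  rw [hcase hM hwM hzM hzN' hz0'] at hb
  obtain ⟨s, t, rfl⟩ := Submodule.mem_span_pair.1 ha
  obtain ⟨s', t', rfl⟩ := Submodule.mem_span_pair.1 hb
  simp [QuadraticMap.polar_add_left, QuadraticMap.polar_add_right, QuadraticMap.polar_smul_left,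
    QuadraticMap.polar_smul_right, self_zero (hL.2 w hwL), hwz', comm' z w, hwz, hN.polar hzN hzN']

/-- A map of singular points accompanying `α`. -/
def IsPointMap (α : MulAut Pm) (f : (ι → F) → ι → F) : Prop :=
  ∀ w : ι → F, Q w = 0 → w ≠ 0 →
    Q (f w) = 0 ∧ f w ≠ 0 ∧ ∀ N M : Sub', Maps G α N M → (w ∈ N ↔ f w ∈ M)

theorem exists_point (hH : Narrow Q) (α : MulAut Pm) {w : ι → F} (hw : Q w = 0) (hw0 : w ≠ 0) :
    ∃ y : ι → F, Q y = 0 ∧ y ≠ 0 ∧ ∀ N M : Sub', Maps G α N M → (w ∈ N ↔ y ∈ M) := by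
  obtain ⟨L, M, hL, hM, hwL, hwM, hne, hna⟩ := exists_star G hw hw0
  obtain ⟨L', hL'⟩ := exists_maps G α hL
  obtain ⟨M', hM'⟩ := exists_maps G α hM
  have hm : L ⊓ M ≠ ⊥ := fun e => hw0 (by simpa [e] using (show w ∈ L ⊓ M from ⟨hwL, hwM⟩))
  obtain ⟨y, ⟨hyL, hyM⟩, hy0⟩ := Submodule.exists_mem_ne_zero_of_ne_bot (meet_maps G hH hL' hM' hm)
  have hne' : L' ≠ M' := fun e => hne (hL'.inj (e ▸ hM'))
  have hna' : ¬ Adj G L' M' := fun e => hna (adj_maps_mp G hL'.symm hM'.symm e)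
  have meets : ∀ {A B : Sub'} {x : ι → F}, x ≠ 0 → x ∈ A → x ∈ B → A ⊓ B ≠ ⊥ := fun hx h1 h2 e =>
    hx (by have h3 := Submodule.mem_inf.2 ⟨h1, h2⟩; rw [e] at h3; exact (Submodule.mem_bot F).1 h3)
  refine ⟨y, hL'.2.1.2 y hyL, hy0, fun N K hN => ⟨fun h => ?_, fun h => ?_⟩⟩
  · exact mem_of_meets G hL'.2.1 hM'.2.1 hN.2.1 hne' hna' hy0 hyL hyM
      (meet_maps G hH hN hL' (meets hw0 h hwL)) (meet_maps G hH hN hM' (meets hw0 h hwM))
  · exact mem_of_meets G hL hM hN.1 hne hna hw0 hwL hwM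
      (meet_maps G hH hN.symm hL'.symm (meets hy0 h hyL)) (meet_maps G hH hN.symm hM'.symm (meets hy0 h hyM))

theorem exists_pointMap (hH : Narrow Q) (α : MulAut Pm) : ∃ f, IsPointMap G α f := by
  classical
  have hex : ∀ w : ι → F, ∃ y : ι → F, Q w = 0 → w ≠ 0 →
      Q y = 0 ∧ y ≠ 0 ∧ ∀ N M : Sub', Maps G α N M → (w ∈ N ↔ y ∈ M) := fun w => by
    by_cases h : Q w = 0 ∧ w ≠ 0
    · obtain ⟨y, hy⟩ := exists_point G hH α h.1 h.2
      exact ⟨y, fun _ _ => hy⟩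
    · exact ⟨0, fun h1 h2 => absurd ⟨h1, h2⟩ h⟩
  choose f hf using hex
  exact ⟨f, hf⟩

end Cfsg.Lib.OrthAut
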